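import Cfsg.Agent.Lib.Invol.ZStarFinal
import Cfsg.Agent.Lib.Invol.Embedded
import Cfsg.Agent.Lib.Invol.Dihedral
import Cfsg.Agent.Lib.Cores.CoprimeGen

/-!
# A subgroup containing the centralisers of all its involutions

A subgroup `X` contains the centraliser of an involution `t` and fixes a single conjugate of `t` up to `X`.
The centraliser of `c = t * s` is put into `X` by the Z*-theorem modulo `c`, that of `b` by a dihedral argument.
-/

set_option autoImplicit false
set_option linter.unusedSectionVars false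
set_option linter.style.haveILetI false

namespace CfsgLib.CoTwoEnd

open Subgroup CfsgLib.Invol

variable {G : Type*} [Group G] [Finite G] {t : G} {X : Subgroup G}

/-- The conjugates of `t` under `X`. -/
def Tx (t : G) (X : Subgroup G) (e : G) : Prop := ∃ k ∈ X, k * t * k⁻¹ = e

theorem Tx.mem {e : G} (htX : centralizer ({t} : Set G) ≤ X) (h : Tx t X e) : e ∈ X := by
  obtain ⟨k, hk, rfl⟩ := h
  exact mul_mem (mul_mem hk (htX (mem_centralizer_singleton_iff.2 rfl))) (inv_mem hk)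

theorem Tx.fix {e : G} (hfix : ∀ g, g * t * g⁻¹ ∈ X → g ∈ X) (h : Tx t X e) {y : G}
    (hy : y * e * y⁻¹ ∈ X) : y ∈ X := by
  obtain ⟨k, hk, rfl⟩ := h
  have := hfix (y * k) (by rw [show y * k * t * (y * k)⁻¹ = y * (k * t * k⁻¹) * y⁻¹ by group]; exact hy)
  simpa using mul_mem this (inv_mem hk)

theorem mem_pair_of_zpowers {c x : G} (hc : orderOf c = 2) (h : x ∈ zpowers c) : x = 1 ∨ x = c := by
  obtain ⟨i, rfl⟩ := mem_zpowers_iff.1 h
  have h2 : c ^ (2 : ℤ) = 1 := by rw [zpow_ofNat, ← hc, pow_orderOf_eq_one]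
  rcases Int.even_or_odd' i with ⟨l, rfl | rfl⟩
  · exact .inl (by rw [zpow_mul, h2, one_zpow])
  · exact .inr (by rw [zpow_add, zpow_mul, h2, one_zpow, one_mul, zpow_one])

/-- The Z*-theorem modulo `c`. -/
theorem cent_le_iso (ht : orderOf t = 2) (htX : centralizer ({t} : Set G) ≤ X)
    (hfix : ∀ g, g * t * g⁻¹ ∈ X → g ∈ X) {c : G} (hc : orderOf c = 2) (htc : t * c = c * t) (hne : t ≠ c)
    (hsT : Tx t X (t * c))
    (hiso : ∀ y ∈ X, y * c = c * y →
      (y * t * y⁻¹ * t = t * (y * t * y⁻¹) → y * t * y⁻¹ = t ∨ y * t * y⁻¹ = t * c) ∧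
        y * t * y⁻¹ * t * (y * t * y⁻¹)⁻¹ ≠ t * c)
    {u₁ u₂ u₃ u₄ u₅ : G} (hu : ∀ u ∈ [u₁, u₂, u₃, u₄, u₅], Tx t X u ∧ u * c = c * u)
    (hcomm : ∀ u ∈ [u₁, u₂, u₃, u₄], ∀ u' ∈ [u₁, u₂, u₃, u₄], u * u' = u' * u)
    (hprod : u₁ * u₂ * (u₃ * u₄) = u₅ ∨ u₁ * u₂ * (u₃ * u₄) = u₅ * c) :
    centralizer ({c} : Set G) ≤ X := by
  classical
  set Y := centralizer ({c} : Set G) with hY
  have hcY : c ∈ Y := mem_centralizer_singleton_iff.2 rfl
  have htY : t ∈ Y := mem_centralizer_singleton_iff.2 htc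
  have hcom : ∀ y : ↥Y, (y : G) * c = c * y := fun y => mem_centralizer_singleton_iff.1 y.2
  set N : Subgroup ↥Y := zpowers ⟨c, hcY⟩ with hN
  haveI : N.Normal := ⟨fun n hn y => by
    obtain ⟨i, rfl⟩ := mem_zpowers_iff.1 hn
    have h : Commute y (⟨c, hcY⟩ : ↥Y) := Subtype.ext (hcom y)
    rw [(h.zpow_right i).eq, mul_inv_cancel_right]
    exact zpow_mem (mem_zpowers _) i⟩
  set π := QuotientGroup.mk' N with hπ
  have hcX : c ∈ X := htX (mem_centralizer_singleton_iff.2 htc.symm)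
  have htmem : t ∈ X := htX (mem_centralizer_singleton_iff.2 rfl)
  have hker : ∀ x : ↥Y, π x = 1 → (x : G) = 1 ∨ (x : G) = c := fun x hx => by
    rcases mem_pair_of_zpowers (c := (⟨c, hcY⟩ : ↥Y)) (by rw [Subgroup.orderOf_mk, hc])
      ((QuotientGroup.eq_one_iff x).1 hx) with h | h <;> rw [h] <;> simp
  have hkc : π ⟨c, hcY⟩ = 1 := (QuotientGroup.eq_one_iff _).2 (mem_zpowers _)
  set U : Subgroup (↥Y ⧸ N) := (X.subgroupOf Y).map π with hU
  have hUmem : ∀ x : ↥Y, π x ∈ U → (x : G) ∈ X := by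
    intro x hx
    obtain ⟨z, hz, e⟩ := mem_map.1 hx
    have := hker (z⁻¹ * x) (by rw [map_mul, map_inv, e, inv_mul_cancel])
    rw [coe_mul, coe_inv] at this
    rcases this with h | h
    · rw [← inv_mul_eq_one.1 h]; exact hz
    · rw [show (x : G) = z * c by rw [← h]; group]; exact mul_mem hz hcX
  -- conjugates of `e` in `X` pull back
  have hpull : ∀ (e : G) (he : e * c = c * e) (y : ↥Y), Tx t X e →
      π (y * ⟨e, mem_centralizer_singleton_iff.2 he⟩ * y⁻¹) ∈ U → (y : G) ∈ X := fun e he y hT h =>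
    Tx.fix hfix hT (by simpa using hUmem _ h)
  set t' : ↥Y := ⟨t, htY⟩ with ht'
  have ht2 : t * t = 1 := mul_self_of_orderOf_two ht
  -- the image of `t` is isolated
  have hisol : Cfsg.IsIsolatedInvolution (π t') := by
    refine ⟨orderOf_eq_two_iff'.2 ⟨fun h => ?_, by
      rw [← map_mul, show t' * t' = 1 from Subtype.ext ht2, map_one]⟩, ?_⟩
    · rcases hker t' h with h | h
      · exact ne_one_of_orderOf_two ht h
      · exact hne h
    intro g hg
    obtain ⟨y, rfl⟩ := QuotientGroup.mk'_surjective N g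
    rw [← hπ, ← map_inv, ← map_mul, ← map_mul] at hg ⊢
    obtain ⟨v, hv⟩ : ∃ v, y * t' * y⁻¹ = v := ⟨_, rfl⟩
    rw [hv] at hg ⊢
    have hvG : (v : G) = y * t * (y : G)⁻¹ := by simp [← hv, ht']
    have hv2 : (v : G) * v = 1 := by rw [hvG]; simp [mul_assoc, ← mul_assoc t t, ht2]
    have hk := hker ((v * t') * (t' * v)⁻¹) (by
      have e : π v * π t' = π t' * π v := hg.eq.symm
      rw [map_mul, map_inv, map_mul, map_mul, e, mul_inv_cancel])
    rw [coe_mul, coe_inv, coe_mul, coe_mul] at hk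
    rcases hk with h | h
    · have hvt : (v : G) * t = t * v := mul_inv_eq_one.1 h
      have hvX : (v : G) ∈ X := htX (mem_centralizer_singleton_iff.2 hvt)
      have hyX : (y : G) ∈ X := hfix y (hvG ▸ hvX)
      rcases (hiso y hyX (hcom y)).1 (hvG ▸ hvt) with e | e
      · exact congrArg π (Subtype.ext (hvG.trans e))
      · rw [show v = t' * ⟨c, hcY⟩ from Subtype.ext (hvG.trans e), map_mul, hkc, mul_one]
    · exfalso
      have e : (v : G) * t * (v : G)⁻¹ = t * c := by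
        rw [mul_inv_rev, inv_eq_of_orderOf_two ht, ← mul_assoc] at h
        have h' : (v : G) * t * (v : G)⁻¹ = c * t := by rw [← h]; simp [ht', mul_assoc, ht2]
        rw [h', htc]
      have hvX : (v : G) ∈ X := hfix v (e ▸ Tx.mem htX hsT)
      have hyX : (y : G) ∈ X := hfix y (hvG ▸ hvX)
      exact (hiso y hyX (hcom y)).2 (hvG ▸ e)
  -- the odd core lies in the image of `X`
  have hmk : ∀ u ∈ [u₁, u₂, u₃, u₄, u₅], u ∈ Y := fun u h => mem_centralizer_singleton_iff.2 (hu u h).2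
  set m : ∀ u, u ∈ [u₁, u₂, u₃, u₄, u₅] → ↥Y ⧸ N := fun u h => π ⟨u, hmk u h⟩ with hm
  set a₁ := m u₁ (by simp) with ha₁
  set a₂ := m u₂ (by simp) with ha₂
  set a₃ := m u₃ (by simp) with ha₃
  set a₄ := m u₄ (by simp) with ha₄
  set A : Subgroup (↥Y ⧸ N) := closure {a₁, a₂, a₃, a₄} with hA
  have h4 : ∀ a ∈ ({a₁, a₂, a₃, a₄} : Set (↥Y ⧸ N)), ∃ u ∈ [u₁, u₂, u₃, u₄],
      ∃ h : u ∈ [u₁, u₂, u₃, u₄, u₅], a = m u h := by
    intro a ha
    simp only [Set.mem_insert_iff, Set.mem_singleton_iff] at ha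
    rcases ha with rfl | rfl | rfl | rfl
    · exact ⟨u₁, by simp, by simp, rfl⟩
    · exact ⟨u₂, by simp, by simp, rfl⟩
    · exact ⟨u₃, by simp, by simp, rfl⟩
    · exact ⟨u₄, by simp, by simp, rfl⟩
  have hAe : Cfsg.IsElementaryAbelian 2 A := by
    have hcl : ∀ a ∈ ({a₁, a₂, a₃, a₄} : Set (↥Y ⧸ N)), ∀ a' ∈ ({a₁, a₂, a₃, a₄} : Set (↥Y ⧸ N)),
        a * a' = a' * a := by
      intro a ha a' ha'
      obtain ⟨u, hu4, h, rfl⟩ := h4 a ha
      obtain ⟨u', hu4', h', rfl⟩ := h4 a' ha'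
      simp only [hm, ← map_mul]
      exact congrArg π (Subtype.ext (hcomm u hu4 u' hu4'))
    haveI := Subgroup.isMulCommutative_closure hcl
    refine ⟨inferInstance, fun a ha => ?_⟩
    induction ha using Subgroup.closure_induction with
    | mem a ha =>
      obtain ⟨u, -, h, rfl⟩ := h4 a ha
      obtain ⟨k, -, e⟩ := (hu u h).1
      rw [hm, ← map_pow, ← map_one π]
      refine congrArg π (Subtype.ext ?_)
      rw [coe_pow, coe_one]
      show u ^ 2 = 1
      rw [← e, conj_pow, pow_two, ht2, mul_one, mul_inv_cancel]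
    | one => simp
    | mul a a' ha ha' iha iha' =>
      rw [(show Commute a a' from congrArg Subtype.val
        (mul_comm' (⟨a, ha⟩ : ↥A) ⟨a', ha'⟩)).mul_pow, iha, iha', mul_one]
    | inv a _ iha => rw [inv_pow, iha, inv_one]
  have hO : Cfsg.oddCore (↥Y ⧸ N) ≤ U := by
    refine Cores.le_of_hyperplanes (p := 2) hAe (CfsgLib.Cores.coprime_card_pPrimeCore 2) (le_normalizer_of_normal) fun B hB hi => ?_
    obtain ⟨u, h, huB⟩ : ∃ u, ∃ h : u ∈ [u₁, u₂, u₃, u₄, u₅], m u h ∈ B := by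
      by_contra hno
      simp only [not_exists] at hno
      have hn : ∀ x y : ↥A, x ∉ B.subgroupOf A → y ∉ B.subgroupOf A → x * y ∈ B.subgroupOf A := by
        intro x y hx hy
        have hne0 : B.relIndex A ≠ 0 := Subgroup.index_ne_zero_of_finite
        rcases (show B.relIndex A = 1 ∨ B.relIndex A = 2 by omega) with h1 | h2
        · have : B.subgroupOf A = ⊤ := Subgroup.index_eq_one.1 h1
          rw [this]; trivial
        · exact (Subgroup.mul_mem_iff_of_index_two h2).2 (iff_of_false hx hy)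
      have hin : ∀ a ∈ ({a₁, a₂, a₃, a₄} : Set (↥Y ⧸ N)), a ∈ A ∧ a ∉ B := fun a ha => by
        obtain ⟨u, -, h, rfl⟩ := h4 a ha
        exact ⟨subset_closure ha, hno u h⟩
      have g1 := hin a₁ (by simp)
      have g2 := hin a₂ (by simp)
      have g3 := hin a₃ (by simp)
      have g4 := hin a₄ (by simp)
      have h12 : a₁ * a₂ ∈ B := hn ⟨a₁, g1.1⟩ ⟨a₂, g2.1⟩ g1.2 g2.2
      have h34 : a₃ * a₄ ∈ B := hn ⟨a₃, g3.1⟩ ⟨a₄, g4.1⟩ g3.2 g4.2
      refine hno u₅ (by simp) ?_
      have h := mul_mem h12 h34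
      simp only [ha₁, ha₂, ha₃, ha₄, hm, ← map_mul] at h
      rcases hprod with e | e
      · convert h using 1
        exact congrArg π (Subtype.ext e.symm)
      · convert h using 1
        rw [show (⟨u₁, hmk u₁ (by simp)⟩ * ⟨u₂, hmk u₂ (by simp)⟩ * (⟨u₃, hmk u₃ (by simp)⟩ *
          ⟨u₄, hmk u₄ (by simp)⟩) : ↥Y) = ⟨u₅, hmk u₅ (by simp)⟩ * ⟨c, hcY⟩ from Subtype.ext e,
          map_mul, hkc, mul_one]
    intro g hg
    obtain ⟨y, rfl⟩ := QuotientGroup.mk'_surjective N g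
    refine mem_map.2 ⟨y, ?_, rfl⟩
    refine mem_subgroupOf.2 (hpull u (hu u h).2 y (hu u h).1 ?_)
    have e : m u h * π y = π y * m u h := (mem_centralizer_iff.1 (mem_inf.1 hg).2 _ huB)
    rw [map_mul, map_mul, map_inv, ← e]
    show m u h * π y * (π y)⁻¹ ∈ U
    rw [mul_inv_cancel_right]
    exact mem_map.2 ⟨⟨u, hmk u h⟩, mem_subgroupOf.2 (Tx.mem htX (hu u h).1), rfl⟩
  intro y hy
  have hz := hO (zstar hisol (π ⟨y, hy⟩))
  have htU : π t' ∈ U := mem_map.2 ⟨t', mem_subgroupOf.2 htmem, rfl⟩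
  have h := U.mul_mem (U.inv_mem htU) hz
  rw [mul_assoc, mul_assoc, inv_mul_cancel_left, ← mul_assoc, ← map_inv, ← map_inv, ← map_mul, ← map_mul] at h
  have := hUmem _ h
  push_cast at this
  rw [inv_eq_of_orderOf_two ht] at this
  exact hfix y this

/-- The dihedral argument. -/
theorem cent_le_dihedral (ht : orderOf t = 2) (htX : centralizer ({t} : Set G) ≤ X)
    (hfix : ∀ g, g * t * g⁻¹ ∈ X → g ∈ X) {β w : G} (hβt : β * t = t * β) (hwT : Tx t X w)
    (hwβ : w * β = β * w)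
    (hne : ∀ k ∈ X, k * (t * β) * k⁻¹ ≠ w * β)
    (hnt : ∀ g : G, g * t * g⁻¹ ≠ t * β ∧ g * t * g⁻¹ ≠ w * β)
    (hE : ∀ e, Tx t X e → e * t = t * e → e * β = β * e → e ≠ t → (∀ g : G, g * t * g⁻¹ ≠ e * β) →
      centralizer ({t * e} : Set G) ≤ X ∨ centralizer ({t * e * β} : Set G) ≤ X) :
    centralizer ({β} : Set G) ≤ X := by
  intro y hy
  have hyβ : y * β = β * y := mem_centralizer_singleton_iff.1 hy
  have hyβ' : y⁻¹ * β = β * y⁻¹ := by
    calc y⁻¹ * β = y⁻¹ * (β * y) * y⁻¹ := by group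
      _ = β * y⁻¹ := by rw [← hyβ]; group
  by_contra hyX
  set v := y * t * y⁻¹ with hv
  have hv2 : orderOf v = 2 := by rw [hv, orderOf_conj_eq, ht]
  have hvX : v ∉ X := fun h => hyX (hfix y h)
  have hw2 : orderOf w = 2 := by
    obtain ⟨k, -, rfl⟩ := hwT
    rw [orderOf_conj_eq, ht]
  have hvβ : Commute v β := by
    show y * t * y⁻¹ * β = β * (y * t * y⁻¹)
    calc y * t * y⁻¹ * β = y * t * (y⁻¹ * β) := by group
      _ = y * (t * β) * y⁻¹ := by rw [hyβ']; group
      _ = y * β * t * y⁻¹ := by rw [← hβt]; group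
      _ = β * (y * t * y⁻¹) := by rw [hyβ]; group
  have hclosed : ∀ d ∈ zpowers (v * w), Commute d β := fun d hd => by
    obtain ⟨i, rfl⟩ := mem_zpowers_iff.1 hd
    exact (hvβ.mul_left hwβ).zpow_left i
  rcases Nat.even_or_odd (orderOf (v * w)) with heven | hodd
  swap
  · obtain ⟨d, hd, e⟩ := exists_conj_of_odd hv2 hw2 hodd
    have hdy : d * y * t * (d * y)⁻¹ = w := by rw [← e, hv]; group
    have hk : d * y ∈ X := hfix _ (hdy ▸ Tx.mem htX hwT)
    refine hne _ hk ?_
    calc d * y * (t * β) * (d * y)⁻¹ = d * y * t * (d * y)⁻¹ * (d * (y * β * y⁻¹) * d⁻¹) := by group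
      _ = w * β := by rw [hdy, hyβ, mul_inv_cancel_right, (hclosed d hd).eq, mul_inv_cancel_right]
  set r := (v * w) ^ (orderOf (v * w) / 2) with hr
  have hr2 : orderOf r = 2 := orderOf_half heven
  have hrr : r * r = 1 := mul_self_of_orderOf_two hr2
  have hrv : Commute r v := commute_half_left hv2 hw2 heven
  have hrw : Commute r w := commute_half_right hv2 hw2 heven
  have hrβ : Commute r β := hclosed r (pow_mem (mem_zpowers _) _)
  have hwX : centralizer ({w} : Set G) ≤ X := fun g hg => Tx.fix hfix hwT (by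
    rw [mem_centralizer_singleton_iff.1 hg, mul_inv_cancel_right]; exact Tx.mem htX hwT)
  have hrX : r ∈ X := hwX (mem_centralizer_singleton_iff.2 hrw.eq)
  by_cases h4 : 4 ∣ orderOf (v * w)
  · obtain ⟨d, hd, e⟩ := conj_half_of_four_dvd hv2 hw2 h4
    rw [← hr] at e
    have hdy : d * y * t * (d * y)⁻¹ = v * r := by rw [← e, hv]; group
    set u := y⁻¹ * (v * r) * y with hu
    have hu' : u = (y⁻¹ * d * y) * t * (y⁻¹ * d * y)⁻¹ := by rw [hu, ← hdy]; group
    have hut : u * t = t * u := by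
      calc u * t = y⁻¹ * (v * r * v) * y := by rw [hu, hv]; group
        _ = y⁻¹ * (v * (v * r)) * y := by rw [mul_assoc v r v, hrv.eq]
        _ = t * u := by rw [hu, hv]; group
    have huβ : u * β = β * u := by
      calc u * β = y⁻¹ * (v * r) * (y * β) := by rw [hu]; group
        _ = y⁻¹ * ((v * r) * β) * y := by rw [hyβ]; group
        _ = y⁻¹ * β * (v * r) * y := by rw [(hvβ.mul_left hrβ).eq]; group
        _ = β * u := by rw [hyβ', hu]; group
    have huX : u ∈ X := htX (mem_centralizer_singleton_iff.2 hut)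
    have huT : Tx t X u := ⟨_, hfix _ (hu' ▸ huX), hu'.symm⟩
    have hune : u ≠ t := fun h => ne_one_of_orderOf_two hr2 (by
      calc r = v * (v * r) := by rw [← mul_assoc, mul_self_of_orderOf_two hv2, one_mul]
        _ = v * (y * u * y⁻¹) := by rw [hu]; group
        _ = 1 := by rw [h, ← hv, mul_self_of_orderOf_two hv2])
    have hnu : ∀ g : G, g * t * g⁻¹ ≠ u * β := fun g hg => by
      refine (hnt ((y⁻¹ * d * y)⁻¹ * g)).1 ?_
      set d' := y⁻¹ * d * y with hd'
      have hdβ : d' * β = β * d' := by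
        calc d' * β = y⁻¹ * d * (y * β) := by rw [hd']; group
          _ = y⁻¹ * (d * β) * y := by rw [hyβ]; group
          _ = y⁻¹ * β * d * y := by rw [(hclosed d hd).eq]; group
          _ = β * d' := by rw [hyβ', hd']; group
      calc d'⁻¹ * g * t * (d'⁻¹ * g)⁻¹ = d'⁻¹ * (g * t * g⁻¹) * d' := by group
        _ = d'⁻¹ * (d' * t * d'⁻¹ * β) * d' := by rw [hg, hu']
        _ = t * (d'⁻¹ * (β * d')) := by group
        _ = t * β := by rw [← hdβ]; group
    have hru : r = y * (t * u) * y⁻¹ := by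
      calc r = v * (v * r) := by rw [← mul_assoc, mul_self_of_orderOf_two hv2, one_mul]
        _ = y * (t * u) * y⁻¹ := by rw [hu, hv]; group
    have hfin : ∀ z, centralizer ({z} : Set G) ≤ X → Commute w (y * z * y⁻¹) → False := fun z hz hwz => by
      have hm : y⁻¹ * w * y ∈ centralizer ({z} : Set G) := mem_centralizer_singleton_iff.2 (by
        calc y⁻¹ * w * y * z = y⁻¹ * (w * (y * z * y⁻¹)) * y := by group
          _ = z * (y⁻¹ * w * y) := by rw [hwz.eq]; group)
      obtain ⟨k, hk, e⟩ := hwT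
      have := hfix (y⁻¹ * k) (by
        rw [show y⁻¹ * k * t * (y⁻¹ * k)⁻¹ = y⁻¹ * (k * t * k⁻¹) * y by group, e]; exact hz hm)
      exact hyX (inv_mem_iff.1 (by simpa using mul_mem this (inv_mem hk)))
    rcases hE u huT hut huβ hune hnu with h | h
    · exact hfin _ h (hru ▸ hrw.symm)
    · refine hfin _ h ?_
      rw [show y * (t * u * β) * y⁻¹ = y * (t * u) * y⁻¹ * (y * β * y⁻¹) by group, ← hru, hyβ,
        mul_inv_cancel_right]
      exact hrw.symm.mul_right hwβ
  · have heven' : Even (orderOf (w * v)) := by rwa [orderOf_mul_comm_invol]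
    obtain ⟨d, hd, e⟩ := conj_half_of_not_four_dvd hw2 hv2 heven' (by rwa [orderOf_mul_comm_invol])
    have hinv : (w * v) ^ (orderOf (w * v) / 2) = r := by
      rw [orderOf_mul_comm_invol, show w * v = (v * w)⁻¹ by
        rw [mul_inv_rev, inv_eq_of_orderOf_two hw2, inv_eq_of_orderOf_two hv2], inv_pow, ← hr,
        inv_eq_of_orderOf_two hr2]
    rw [hinv] at e
    have hdy : d * y * t * (d * y)⁻¹ = w * r := by rw [← e, hv]; group
    have hk : d * y ∈ X := hfix _ (hdy ▸ mul_mem (Tx.mem htX hwT) hrX)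
    set k := d * y with hkdef
    have hdβ : Commute d β := by
      obtain ⟨i, rfl⟩ := mem_zpowers_iff.1 hd
      exact (Commute.mul_left hwβ hvβ).zpow_left i
    have hkβ : Commute k β := hdβ.mul_left hyβ
    set w' := k⁻¹ * w * k with hw'
    have hw't : w' * t = t * w' := by
      have h1 : w * (w * r) = w * r * w := by rw [mul_assoc w r w, hrw.eq]
      calc w' * t = k⁻¹ * (w * (k * t * k⁻¹)) * k := by rw [hw']; group
        _ = k⁻¹ * (k * t * k⁻¹ * w) * k := by rw [hdy, h1]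
        _ = t * w' := by rw [hw']; group
    have hw'β : w' * β = β * w' := ((hkβ.inv_left.mul_left hwβ).mul_left hkβ).eq
    obtain ⟨k0, hk0, e0⟩ := hwT
    have hw'T : Tx t X w' := ⟨k⁻¹ * k0, mul_mem (inv_mem hk) hk0, by rw [hw', ← e0]; group⟩
    have htw : t * w' = k⁻¹ * r * k := by
      calc t * w' = k⁻¹ * (k * t * k⁻¹ * w) * k := by rw [hw']; group
        _ = k⁻¹ * r * k := by rw [hdy, mul_assoc w r w, hrw.eq, ← mul_assoc w w, mul_self_of_orderOf_two hw2,
          one_mul]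
    have hne' : w' ≠ t := fun h => ne_one_of_orderOf_two hr2 (by
      rw [h, mul_self_of_orderOf_two ht] at htw
      calc r = k * (k⁻¹ * r * k) * k⁻¹ := by group
        _ = 1 := by rw [← htw]; group)
    have hnu : ∀ g : G, g * t * g⁻¹ ≠ w' * β := fun g hg => (hnt (k * g)).2 (by
      calc k * g * t * (k * g)⁻¹ = k * (g * t * g⁻¹) * k⁻¹ := by group
        _ = w * (k * β * k⁻¹) := by rw [hg, hw']; group
        _ = w * β := by rw [hkβ.eq, mul_inv_cancel_right])
    have hfin : ∀ z, centralizer ({z} : Set G) ≤ X → Commute v (k * z * k⁻¹) → False := fun z hz hvz => by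
      have hm : k⁻¹ * v * k ∈ centralizer ({z} : Set G) := mem_centralizer_singleton_iff.2 (by
        calc k⁻¹ * v * k * z = k⁻¹ * (v * (k * z * k⁻¹)) * k := by group
          _ = z * (k⁻¹ * v * k) := by rw [hvz.eq]; group)
      refine hvX ?_
      have := mul_mem (mul_mem hk (hz hm)) (inv_mem hk)
      rwa [show k * (k⁻¹ * v * k) * k⁻¹ = v by group] at this
    have hkr : k * (t * w') * k⁻¹ = r := by rw [htw]; group
    rcases hE w' hw'T hw't hw'β hne' hnu with h | h
    · exact hfin _ h (by rw [hkr]; exact hrv.symm)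
    · refine hfin _ h ?_
      rw [show k * (t * w' * β) * k⁻¹ = k * (t * w') * k⁻¹ * (k * β * k⁻¹) by group, hkr, hkβ.eq,
        mul_inv_cancel_right]
      exact hrv.symm.mul_right hvβ

/-- With all three centralisers inside, the subgroup is everything. -/
theorem eq_top_of_three (ht : orderOf t = 2) (htX : centralizer ({t} : Set G) ≤ X)
    (hfix : ∀ g, g * t * g⁻¹ ∈ X → g ∈ X) {b c : G} (hb : orderOf b = 2)
    (hbt : b * t = t * b) (hct : c * t = t * c)
    (hbX : centralizer ({b} : Set G) ≤ X) (hcX : centralizer ({c} : Set G) ≤ X)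
    (hcls : ∀ z ∈ X, orderOf z = 2 → ∃ k ∈ X, k * z * k⁻¹ ∈ ({t, b, c} : Set G))
    (htb : ¬ IsConj t b) : X = ⊤ := by
  classical
  by_contra hne
  have htm : t ∈ X := htX (mem_centralizer_singleton_iff.2 rfl)
  have hse : Cfsg.IsStronglyEmbedded X := by
    refine ⟨hne, ?_, fun g hg => ?_⟩
    · exact even_iff_two_dvd.2 (ht ▸ orderOf_dvd_natCard X htm)
    rw [← Nat.not_even_iff_odd, even_iff_two_dvd]
    intro h2
    obtain ⟨⟨z, hz⟩, hz2⟩ := exists_prime_orderOf_dvd_card'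
      (G := ↥(X ⊓ X.map (MulAut.conj g).toMonoidHom)) 2 h2
    rw [Subgroup.orderOf_mk] at hz2
    obtain ⟨hzX, hzg⟩ := mem_inf.1 hz
    obtain ⟨z', hz', e⟩ := mem_map.1 hzg
    replace e : g * z' * g⁻¹ = z := e
    obtain ⟨k, hk, hd⟩ := hcls z hzX hz2
    obtain ⟨k', hk', hd'⟩ := hcls z' hz' (by rw [← orderOf_conj_eq g, e, hz2])
    set g' := k * g * k'⁻¹ with hg'
    have hconj : g' * (k' * z' * k'⁻¹) * g'⁻¹ = k * z * k⁻¹ := by rw [hg', ← e]; group
    have hg'X : g' ∈ X := by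
      have key : ∀ p ∈ ({t, b, c} : Set G), p * t = t * p ∧ centralizer ({p} : Set G) ≤ X := by
        rintro p (rfl | rfl | rfl)
        exacts [⟨rfl, htX⟩, ⟨hbt, hbX⟩, ⟨hct, hcX⟩]
      obtain ⟨h1, -⟩ := key _ hd'
      obtain ⟨-, h2⟩ := key _ hd
      refine hfix g' (h2 (mem_centralizer_singleton_iff.2 ?_))
      rw [← hconj]
      calc g' * t * g'⁻¹ * (g' * (k' * z' * k'⁻¹) * g'⁻¹) = g' * (t * (k' * z' * k'⁻¹)) * g'⁻¹ := by group
        _ = g' * (k' * z' * k'⁻¹) * g'⁻¹ * (g' * t * g'⁻¹) := by rw [← h1]; group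
    refine hg ?_
    have := mul_mem (mul_mem (inv_mem hk) hg'X) hk'
    rwa [hg', show k⁻¹ * (k * g * k'⁻¹) * k' = g by group] at this
  exact htb (stronglyEmbedded_one_class hse ht hb)

end CfsgLib.CoTwoEnd
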