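import Cfsg.Agent.Lib.CoTwoEnd.ClassifyChecks
import Cfsg.Agent.Lib.CoThreeEndgame.Small

/-!
# Three classes of involutions in the model of Co2
-/

set_option autoImplicit false
set_option maxRecDepth 100000

namespace CfsgLib.CoTwoEnd

open Cfsg CfsgLib.Rigid CfsgLib.CoTwoRec Subgroup

/-- The involution of the second class. -/
noncomputable def bm : Cm := tm * nbr

/-- The involution of the third class. -/
noncomputable def cm : Cm := tm * sec

theorem words_ok : (okW 16 tWord && okW 16 xWord && okW 16 yWord) = true := by decide +kernel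

theorem coe_tm : (tm : CoG) = ev letter tWord := by
  have h := words_ok
  simp only [Bool.and_eq_true, okW_iff] at h
  exact coe_ev_xm h.1.1

theorem coe_nbr : (nbr : CoG) = ev letter xWord := by
  have h := words_ok
  simp only [Bool.and_eq_true, okW_iff] at h
  exact coe_ev_xm h.1.2

theorem coe_sec : (sec : CoG) = ev letter yWord := by
  have h := words_ok
  simp only [Bool.and_eq_true, okW_iff] at h
  exact coe_ev_xm h.2

theorem coe_bm : (bm : CoG) = ev letter (tWord ++ xWord) := by
  rw [bm, Subgroup.coe_mul, coe_tm, coe_nbr, ev_append]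

theorem coe_cm : (cm : CoG) = ev letter (tWord ++ yWord) := by
  rw [cm, Subgroup.coe_mul, coe_tm, coe_sec, ev_append]

/-- A member of the three classes. -/
def InThree (z : CoG) : Prop :=
  ∃ k : CoG, k * z * k⁻¹ = (tm : CoG) ∨ k * z * k⁻¹ = (bm : CoG) ∨ k * z * k⁻¹ = (cm : CoG)

theorem inThree_conj {z : CoG} (g : CoG) (h : InThree (g * z * g⁻¹)) : InThree z := by
  obtain ⟨k, h⟩ := h
  exact ⟨k * g, by rwa [show k * g * z * (k * g)⁻¹ = k * (g * z * g⁻¹) * k⁻¹ by group]⟩

theorem qr_all {r : ℕ} (hr : r < 5) : ∃ T, qrB r T = true := by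
  interval_cases r
  exacts [⟨_, qr0_ok⟩, ⟨_, qr1_ok⟩, ⟨_, qr2_ok⟩, ⟨_, qr3_ok⟩, ⟨_, qr4_ok⟩]

theorem qr_cases {r : ℕ} (hr : r < 5) {q : CoG} (hq : q ∈ Qs)
    (hsq : q * ev letter (repW.getD r []) * (q * ev letter (repW.getD r [])) = 1)
    (hne : q * ev letter (repW.getD r []) ≠ 1) : InThree (q * ev letter (repW.getD r [])) := by
  obtain ⟨T, hT⟩ := qr_all hr
  obtain ⟨i, hi, rfl⟩ := q_mem hq
  rw [← ev_append] at hsq hne ⊢
  simp only [qrB, Bool.and_eq_true, decide_eq_true_eq, List.all_eq_true] at hT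
  have hz : i < (T.zip (List.range 512)).length := by simp [hT.1.1]; omega
  have h := hT.2 _ (List.getElem_mem hz)
  simp only [List.getElem_zip, List.getElem_range, Bool.or_eq_true, Bool.and_eq_true, Nat.blt_eq] at h
  rcases h with (h | h) | h
  · exact absurd ((ev_eq_of_kEq h.2).trans (by simp [ev])) hne
  · have := ev_ne_of_ptNe h.2
    rw [ev_append] at this
    exact absurd hsq (by simpa [ev] using this)
  · have e := conj_of_conjB h.2
    refine ⟨ev letter T[i].2.2, ?_⟩
    rw [e]
    obtain ⟨⟨-, hlt⟩, -⟩ := h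
    rcases (show T[i].2.1 = 0 ∨ T[i].2.1 = 1 ∨ T[i].2.1 = 2 by omega) with h | h | h <;>
      simp [h, clsW, coe_tm, coe_bm, coe_cm]

theorem fac_two : (42305421312000 : ℕ).factorization 2 = 18 := by
  rw [show (42305421312000 : ℕ) = 2 ^ 18 * 161382375 by norm_num,
    Nat.factorization_mul (by norm_num) (by norm_num), Finsupp.add_apply, Nat.prime_two.factorization_pow,
    Finsupp.single_eq_same, Nat.factorization_eq_zero_of_not_dvd (show ¬ 2 ∣ 161382375 by norm_num)]

/-- Every involution lies in one of the three classes. -/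
theorem invol_three {z : CoG} (hz : orderOf z = 2) : InThree z := by
  haveI : Fact (Nat.Prime 2) := ⟨Nat.prime_two⟩
  obtain ⟨k, hk⟩ := CfsgLib.CoThreeEndgame.conj_into (p := 2) (a := 18) (P := Ss) card_Ss
    (by rw [show Nat.card CoG = 42305421312000 from Co2.card_grp, fac_two])
    (CfsgLib.CoThreeEndgame.pgroup_zpowers (x := z) (n := 1) (by rw [pow_one, ← hz, pow_orderOf_eq_one]))
  refine inThree_conj k ?_
  obtain ⟨q, hq, p, hp, e⟩ := Ss_mem (hk z (mem_zpowers z))
  rw [e]
  have h2 : q * p * (q * p) = 1 := by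
    rw [← e, show k * z * k⁻¹ * (k * z * k⁻¹) = k * (z * z) * k⁻¹ by group, ← pow_two,
      show z ^ 2 = 1 by rw [← hz, pow_orderOf_eq_one]]
    group
  have hne : q * p ≠ 1 := by
    rw [← e]
    intro h
    rw [conj_eq_one_iff.1 h, orderOf_one] at hz
    omega
  have hp2 : p * p = 1 := by
    refine meet ?_ (mul_mem hp hp)
    have e2 : p * p = p * q⁻¹ * p⁻¹ * q⁻¹ := by
      calc p * p = (p * q⁻¹ * p⁻¹ * q⁻¹) * (q * (p * q * p⁻¹) * (p * p)) := by group
        _ = (p * q⁻¹ * p⁻¹ * q⁻¹) * (q * p * (q * p)) := by group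
        _ = p * q⁻¹ * p⁻¹ * q⁻¹ := by rw [h2, mul_one]
    rw [e2]
    exact mul_mem (Hs_conj_Qs (Ps_le_Hs hp) (inv_mem hq)) (inv_mem hq)
  obtain ⟨i, hi, rfl⟩ := p_mem hp
  have h := p_inv
  simp only [pB, Bool.and_eq_true, decide_eq_true_eq, List.all_eq_true] at h
  have hz' : i < (pWit.zip (List.range 512)).length := by simp [h.1.2]; omega
  have hw := h.2 _ (List.getElem_mem hz')
  simp only [List.getElem_zip, List.getElem_range, Bool.or_eq_true, Bool.and_eq_true, Nat.blt_eq,
    okW_iff, eqL_iff] at hw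
  rcases hw with (hw | hw) | hw
  · have e1 : ev letter (pW i) = ev letter (repW.getD 0 []) := by
      rw [show repW.getD 0 [] = [] from rfl]
      exact key_inj (by rw [key_ev (p_ok hi), key_ev (w := []) (by simp)]; exact hw.2)
    rw [e1] at h2 hne ⊢
    exact qr_cases (by norm_num) hq h2 hne
  · have := ev_ne_of_ptNe hw.2
    rw [ev_append] at this
    exact absurd hp2 (by simpa [ev] using this)
  · obtain ⟨⟨⟨-, hkH⟩, hr⟩, hc⟩ := hw
    have hlen : i < pWit.length := by omega
    obtain ⟨en, hen⟩ : ∃ en, pWit[i]'hlen = en := ⟨_, rfl⟩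
    rw [hen] at hkH hr hc
    obtain ⟨n0, r, w⟩ := en
    set g := ev letter w with hg
    have hc' := conj_of_conjB hc
    rw [← hg] at hc'
    refine inThree_conj g ?_
    have e3 : g * (q * ev letter (pW i)) * g⁻¹ = g * q * g⁻¹ * ev letter (repW.getD r []) := by
      rw [← hc']; group
    rw [e3]
    refine qr_cases hr (Hs_conj_Qs (ev_mem_Hs hkH) hq) ?_ ?_
    · rw [← e3, show g * (q * ev letter (pW i)) * g⁻¹ * (g * (q * ev letter (pW i)) * g⁻¹) =
        g * (q * ev letter (pW i) * (q * ev letter (pW i))) * g⁻¹ by group, h2]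
      group
    · rw [← e3]
      exact fun h => hne (conj_eq_one_iff.1 h)

end CfsgLib.CoTwoEnd
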