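import Mathlib

/-!
# Tables for the endgame of Co2
-/

set_option autoImplicit false
set_option maxRecDepth 20000

namespace CfsgLib.CoTwoEnd

/-- The representatives. -/
def repW : List (List ℕ) := [[],[0],[0,1],[0,1,2],
  [0,1,6]]

/-- The involutions of P. -/
def pWit : List (ℕ × ℕ × List ℕ) := [(0, 0, []),(2, 1, []),(2, 1, [3,0,6,3,4,6,7,4,5,2,7,5]),(2, 2, [3,6,4,7,5,1,4,7,6,4,3,6,1,4,2]),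
  (2, 2, [3,6,4,7,5,1,4,7,6,4,3,4,7,4,5,6,3,0,7,4,6]),(2, 2, [3,6,4,7,5,1,4,7,6,4,3,6,1,4,2,4,5,6,3,0,7,4,6,3]),(2, 3, [4,7,5,1,4]),(1, 1, []),
  (1, 1, []),(2, 3, [4,7,6,3,4]),(1, 1, []),(1, 1, []),
  (1, 1, []),(1, 1, []),(1, 1, []),(1, 1, []),
  (1, 1, []),(1, 1, []),(2, 2, [3,6,4,7,5,1,4,7,6,4,3,4,7,4,5,6,3,7,4,6]),(1, 1, []),
  (2, 2, [3,6,4,7,5,1,4,7,6,4,3,6,1,4]),(1, 1, []),(1, 1, []),(1, 1, []),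
  (2, 1, [3,0,6,3,4,6,7,4]),(1, 1, []),(1, 1, []),(2, 2, [3,6,4,7,5,1,4,7,6,4,3,6,7,4,5,2,6,3,0,7,4,5,6]),
  (1, 1, []),(2, 1, [3,0,6,3,4,1,7,4]),(1, 1, []),(2, 2, [3,6,4,7,5,1,4,7,6,4,3,6,1,4,2,4,1,6,4,7,4,1,6,3,4]),
  (2, 3, [4,7,5,1,4,2]),(1, 1, []),(2, 3, [4,7,6,3,0,4]),(1, 1, []),
  (2, 2, [3,6,4,7,5,1,4,7,6,4,3,6,1,4,2,4,5,6,3,0,7,4,5,2,6,3,7,5]),(1, 1, []),(1, 1, []),(1, 1, []),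
  (1, 1, []),(2, 2, [3,6,4,7,5,1,4,7,6,4,3,4,7,4,5,6,3,0,7,4,6,3]),(1, 1, []),(1, 1, []),
  (2, 2, [3,6,4,7,5,1,4,7,6,4,3,6,1,4,2,5]),(1, 1, []),(1, 1, []),(2, 4, [4,7,5,1,4,7,2,5,3]),
  (1, 1, []),(2, 2, [3,6,4,7,5,1,4,7,6,4,3,6,1,4,2,4,1,5,6,4]),(1, 1, []),(1, 1, []),
  (2, 4, [4,7,5,1,4,7,2,5,3,5,2,7,5]),(1, 1, []),(2, 3, [4,7,5,1,4,2,4,1,6,3,4,7,5]),(1, 1, []),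
  (1, 1, []),(2, 2, [3,6,4,7,5,1,4,7,6,4,3,4,7,4,1,5,6,3,4]),(1, 1, []),(2, 3, [4,7,5,1,4,3,0,4,1,6,4,7,4,1,6,3,4]),
  (1, 1, []),(1, 1, []),(1, 1, []),(2, 3, [4,7,5,1,4,5]),
  (1, 1, []),(1, 1, []),(1, 1, []),(1, 1, []),
  (2, 3, [4,7,6,4]),(1, 1, []),(1, 1, []),(1, 1, []),
  (1, 1, []),(1, 1, []),(2, 2, [3,6,4,7,5,1,4,7,6,4,3,6,7,4,5,2,6,3,7,4,5,6]),(1, 1, []),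
  (1, 1, []),(1, 1, []),(1, 1, []),(1, 1, []),
  (1, 1, []),(2, 2, [3,6,4,7,5,1,4,7,6,4,3,6,1,4,2,4,1,6,4,7,4,1,6,3,0,4]),(2, 3, [4,7,5,1,4,2,4,6,3,0,7,4,1,5,2,7,4,5,6]),(1, 1, []),
  (2, 3, [4,7,5,1,4,2,4,1,6,3,0,4,6,7,4,1,5,7,4]),(1, 1, []),(1, 1, []),(2, 3, [4,7,5,1,4,3,4,1,5,6,3,0,4,1,6,7,4]),
  (1, 1, []),(1, 1, []),(1, 1, []),(2, 2, [3,6,4,7,5,1,4,7,6,4,3,4,7,4,1,6,3,4]),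
  (1, 1, []),(1, 1, []),(1, 1, []),(1, 1, []),
  (2, 3, [4,7,5,1,4,3,4,1,5,6,3,0,4,1,6,7,4,5,2,7,5]),(1, 1, []),(2, 1, [3,6,4,1,7,4,6,3]),(1, 1, []),
  (1, 1, []),(1, 1, []),(1, 1, []),(1, 1, []),
  (1, 1, []),(1, 1, []),(1, 1, []),(1, 1, []),
  (1, 1, []),(1, 1, []),(2, 4, [4,7,5,1,4,7,2,5,3,0]),(1, 1, []),
  (1, 1, []),(1, 1, []),(1, 1, []),(1, 1, []),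
  (1, 1, []),(1, 1, []),(2, 4, [4,7,5,1,4,7,2,5,3,0,5,2,7,5]),(2, 3, [4,7,5,1,4,2,4,1,6,3,0,4,7,5]),
  (1, 1, []),(1, 1, []),(1, 1, []),(2, 2, [3,6,4,7,5,1,4,7,6,4,3,6,7,4,5,2,6,3,0,7,4,5,6,3]),
  (2, 2, [3,6,4,7,5,1,4,7,6,4,3,4,7,4,1,5,6,3,0,4]),(1, 1, []),(2, 3, [4,7,5,1,4,3,0,4,1,6,4,7,4,1,6,3,0,4]),(1, 1, []),
  (1, 1, []),(1, 1, []),(1, 1, []),(1, 1, []),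
  (1, 1, []),(1, 1, []),(1, 1, []),(2, 4, [4,7,5,1,4,7,2,5,3,5,2,7,4,1,5,7,4]),
  (1, 1, []),(2, 2, [3,6,4,7,5,1,4,7,6,4,3,6,1,4,2,4,1,5,6,3,0,4,6,3]),(1, 1, []),(2, 3, [4,7,5,1,4,2,3,0,4,1,6,4,7,4,1,6,3,4]),
  (1, 1, []),(1, 1, []),(1, 1, []),(1, 1, []),
  (1, 1, []),(1, 1, []),(2, 2, [3,6,4,7,5,1,4,7,6,4,0,4,6,3,7,5]),(1, 1, []),
  (2, 2, [3,6,4,7,5,1,4,7,6,4,3,4,7,5]),(1, 1, []),(1, 1, []),(2, 3, [4,7,5,1,4,3,4,1,6,4,1,7,4,1,6,3,4]),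
  (1, 1, []),(1, 1, []),(1, 1, []),(1, 1, []),
  (1, 1, []),(1, 1, []),(1, 1, []),(1, 1, []),
  (1, 1, []),(1, 1, []),(1, 1, []),(2, 3, [4,7,5,1,4,2,4,6,3,7,4,1,5,2,7,4,5,6]),
  (2, 3, [4,7,5,1,4,2,4,1,6,3,4,6,7,4,1,5,7,4]),(1, 1, []),(1, 1, []),(1, 1, []),
  (2, 4, [4,7,5,1,4,7,2,5]),(2, 3, [4,7,5,1,4,3,4,1,5,6,3,4,1,6,7,4]),(1, 1, []),(1, 1, []),
  (1, 1, []),(1, 1, []),(1, 1, []),(2, 2, [3,6,4,7,5,1,4,7,6,4,3,4,7,4,1,6,3,0,4]),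
  (1, 1, []),(2, 4, [4,7,5,1,4,5]),(1, 1, []),(2, 3, [4,7,5,1,4,2,4,1,6,4,7,5]),
  (2, 3, [4,7,5,1,4,3,4,1,5,6,3,4,1,6,7,4,5,2,7,5]),(1, 1, []),(1, 1, []),(1, 1, []),
  (1, 1, []),(1, 1, []),(1, 1, []),(1, 1, []),
  (1, 1, []),(1, 1, []),(1, 1, []),(1, 1, []),
  (1, 1, []),(1, 1, []),(2, 3, [4,7,5,1,4,3,0,4,1,5,6,3,4,6,7,4,6,3]),(1, 1, []),
  (2, 3, [4,7,5,1,4,3,0,4,1,5,6,3,0,4,6,3,7,4]),(1, 1, []),(1, 1, []),(1, 1, []),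
  (1, 1, []),(1, 1, []),(1, 1, []),(1, 1, []),
  (1, 1, []),(1, 1, []),(1, 1, []),(1, 1, []),
  (1, 1, []),(1, 1, []),(1, 1, []),(1, 1, []),
  (1, 1, []),(1, 1, []),(1, 1, []),(1, 1, []),
  (1, 1, []),(1, 1, []),(1, 1, []),(1, 1, []),
  (1, 1, []),(1, 1, []),(1, 1, []),(2, 2, [3,6,4,7,5,1,4,7,6,4,3,6,7,4,5,2,6,3,0,7,4,5]),
  (1, 1, []),(1, 1, []),(1, 1, []),(2, 2, [3,6,4,7,5,1,4,7,6,4,3,6,1,4,2,4,1,6,4,7,4,1,6,4]),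
  (1, 1, []),(2, 1, [3,0,6,3]),(2, 3, [4,7,5,1,4,2,4,6,3,0,7,4,1,5,2,7,4,5,6,3]),(1, 1, []),
  (2, 3, [4,7,5,1,4,2,4,1,6,3,0,4,6,3,7,4,1,5,7,4]),(2, 4, [4,7,5,1,4,7,2,5,3,0,5,2,7,4,1,5,7,4]),(1, 1, []),(1, 1, []),
  (1, 1, []),(1, 1, []),(2, 3, [4,7,5,1,4,2,3,0,4,1,6,4,7,4,1,6,3,0,4]),(1, 1, []),
  (1, 1, []),(1, 1, []),(1, 1, []),(1, 1, []),
  (1, 1, []),(1, 1, []),(1, 1, []),(1, 1, []),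
  (1, 1, []),(1, 1, []),(1, 1, []),(2, 3, [4,7,5,1,4,3,4,1,6,4,1,7,4,1,6,3,0,4]),
  (1, 1, []),(1, 1, []),(1, 1, []),(1, 1, []),
  (1, 1, []),(1, 1, []),(1, 1, []),(1, 1, []),
  (1, 1, []),(1, 1, []),(1, 1, []),(2, 3, [4,7,5,6,4,7,4,1,6,4]),
  (1, 1, []),(2, 2, [3,6,4,7,5,1,4,7,6,4,3,6,1,4,2,4,5,6,3,0,7,4,5,2,6,3,7,4,5,6,7,4]),(1, 1, []),(2, 3, [4,7,5,1,4,2,3,4,1,6,4,1,7,4,1,6,3,4]),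
  (1, 1, []),(1, 1, []),(1, 1, []),(1, 1, []),
  (1, 1, []),(1, 1, []),(1, 1, []),(1, 1, []),
  (1, 1, []),(1, 1, []),(2, 4, [4,7,5,1,4,7,2,5,3,6]),(1, 1, []),
  (1, 1, []),(1, 1, []),(1, 1, []),(1, 1, []),
  (2, 2, [3,6,4,7,5,1,4,7,6,4,3,6,1,4,2,4,5,6,7,4]),(1, 1, []),(1, 1, []),(1, 1, []),
  (1, 1, []),(1, 1, []),(1, 1, []),(1, 1, []),
  (1, 1, []),(2, 2, [3,6,4,7,5,1,4,7,6,4,3,4,7,4,1,5,6,4]),(2, 3, [4,7,5,1,4,3,0,6,3]),(2, 3, [4,7,5,1,4,2,4,1,6,3,4,6,7,5]),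
  (1, 1, []),(1, 1, []),(1, 1, []),(1, 1, []),
  (2, 2, [3,6,4,7,5,1,4,7,6,4,3,6,7,4,5,2,6,7,4,5]),(2, 2, [3,6,4,7,5,1,5,6,3,7,4,1,6,4]),(1, 1, []),(2, 2, [3,6,4,7,5,1,4,7,6,4,3,6,1,4,2,4,5,6,7,4,5,2,7,5]),
  (1, 1, []),(1, 1, []),(1, 1, []),(1, 1, []),
  (1, 1, []),(1, 1, []),(1, 1, []),(1, 1, []),
  (1, 1, []),(1, 1, []),(1, 1, []),(1, 1, []),
  (1, 1, []),(1, 1, []),(1, 1, []),(1, 1, []),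
  (1, 1, []),(1, 1, []),(2, 3, [4,7,5,1,5,6,7,4]),(1, 1, []),
  (1, 1, []),(1, 1, []),(1, 1, []),(1, 1, []),
  (1, 1, []),(1, 1, []),(1, 1, []),(2, 3, [4,7,5,1,4,2,4,1,6,4,7,4,1,5,6,4]),
  (2, 4, [4,7,5,1,4,7,2,5,3,0,5,2,6,3,7,4,1,6,4]),(1, 1, []),(1, 1, []),(1, 1, []),
  (2, 2, [3,6,4,7,5,1,4,7,6,4,3,6,7,4,5,2,6,3,7,4,5]),(1, 1, []),(2, 3, [4,7,5,1,4,2,4,1,7,4,5,2,6,7,4,5]),(1, 1, []),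
  (1, 1, []),(2, 3, [4,7,5,1,5,6,7,4,5,2,7,5]),(1, 1, []),(1, 1, []),
  (1, 1, []),(1, 1, []),(1, 1, []),(1, 1, []),
  (1, 1, []),(1, 1, []),(2, 3, [4,7,5,1,4,3,4,1,5,6,3,0,4,1,6,3,7,4]),(1, 1, []),
  (2, 3, [4,7,5,1,4,2,4,1,6,3,0,4,7,4,1,5,7,4]),(1, 1, []),(1, 1, []),(1, 1, []),
  (1, 1, []),(2, 4, [4,7,5,1,4,7,2,5,3,0,6,3]),(2, 3, [4,7,5,1,5,6,3,0,7,4]),(2, 2, [3,6,4,7,5,1,4,7,6,4,3,4,7,4,1,6,4]),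
  (2, 3, [4,7,5,1,4,3,0,5,6,3]),(1, 1, []),(1, 1, []),(1, 1, []),
  (2, 3, [4,7,5,1,4,3,4,1,5,6,3,0,4,1,6,3,7,4,5,2,7,5]),(1, 1, []),(1, 1, []),(2, 2, [3,6,4,7,5,1,4,7,6,4,3,4,7,4,5,6,3,0,7,4]),
  (1, 1, []),(2, 4, [4,7,5,1,4,7,2,5,3,5,2,6,4,7,4,1,5,7,4]),(1, 1, []),(1, 1, []),
  (2, 3, [4,7,5,1,4,2,4,1,6,3,0,4,6,3,7,5]),(2, 3, [4,7,5,1,5,6,3,0,7,4,5,2,7,5]),(1, 1, []),(1, 1, []),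
  (1, 1, []),(2, 3, [4,7,5,1,4,2,3,4,1,6,4,1,7,4,1,6,3,0,4]),(1, 1, []),(1, 1, []),
  (1, 1, []),(1, 1, []),(1, 1, []),(1, 1, []),
  (1, 1, []),(2, 3, [4,7,5,1,4,3,0,4,1,5,7,4,5,2,6,3,7,5]),(1, 1, []),(1, 1, []),
  (1, 1, []),(1, 1, []),(2, 4, [4,7,5,1,4,7,2,5,3,0,6]),(1, 1, []),
  (2, 3, [4,7,5,1,4,2,3,0,6,3,4,1,6,4,7,5]),(1, 1, []),(2, 3, [4,7,5,1,4,2,4,1,6,4,7,4,1,6,4]),(2, 4, [4,7,5,1,4,7,2,5,3,0,5,2,6,3,7,4,1,5,6,4]),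
  (1, 1, []),(1, 1, []),(1, 1, []),(2, 3, [4,7,5,1,4,3,0,4,1,5,7,4,6,3]),
  (1, 1, []),(1, 1, []),(1, 1, []),(1, 1, []),
  (1, 1, []),(2, 3, [4,7,5,1,4,2,4,1,6,3,0,4,6,7,5]),(1, 1, []),(2, 3, [4,7,5,1,4,3,5,6,4,1,7,4,6,3]),
  (1, 1, []),(1, 1, []),(2, 2, [3,6,4,7,5,1,4,7,6,4,3,6,1,4,2,4,6,3,0,7,4,5,2,6,3,7,4,5,6,7,4]),(1, 1, []),
  (1, 1, []),(1, 1, []),(1, 1, []),(2, 4, []),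
  (2, 3, [4,7,5,1,4,2,3,0,6,3]),(1, 1, []),(2, 3, [4,7,6,3,4,6]),(1, 1, []),
  (1, 1, []),(1, 1, []),(1, 1, []),(2, 3, [4,7,5,1,4,2,4,1,6,4,7,4,1,5,7,4]),
  (2, 4, [4,7,5,1,4,7,2,5,3,5,2,6,7,4,1,5,7,4]),(1, 1, []),(1, 1, []),(1, 1, []),
  (1, 1, []),(2, 4, [4,7,5,1,4,7,2,5,3,5,2,6,7,5]),(1, 1, []),(1, 1, []),
  (1, 1, []),(1, 1, []),(2, 2, [3,6,4,7,5,1,4,7,6,4,3,4,7,4,5,6,7,4]),(1, 1, []),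
  (1, 1, []),(1, 1, []),(2, 3, [4,7,5,1,4,2,3,0,6,3,4,1,7,4,5,6,7,4]),(1, 1, []),
  (1, 1, []),(1, 1, []),(2, 2, [3,6,4,7,5,1,4,7,6,4,0,4,6,3,7,4,1,5,7,4]),(2, 4, [4,7,5,1,4,7,2,5,3,0,5,6,3,7,4,1,6,4]),
  (1, 1, []),(1, 1, []),(1, 1, []),(1, 1, []),
  (2, 3, [4,7,5,1,4,2,4,1,6,3,4,7,4,1,5,7,4]),(1, 1, []),(2, 2, [3,6,4,7,5,1,4,7,6,4,3,4,7,4,1,5,7,4]),(1, 1, []),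
  (1, 1, []),(2, 3, [4,7,5,1,5,6,3,7,4]),(1, 1, []),(1, 1, []),
  (1, 1, []),(1, 1, []),(1, 1, []),(2, 2, [3,6,4,7,5,1,4,7,6,4,3,4,7,4,5,6,3,7,4]),
  (2, 4, [4,7,5,1,4,7,2,5,3,0,5,2,6,3,7,4,1,6,3,4]),(2, 3, [4,7,5,1,4,2,4,1,6,4,7,4,5,6,7,4]),(1, 1, []),(2, 3, [4,7,5,1,5,6,3,7,4,5,2,7,5]),
  (1, 1, []),(2, 4, [4,7,5,1,4,7,2,5,3,0,5,2,6,3,4,1,6,4]),(1, 1, []),(2, 3, [4,7,5,1,4,2,4,6,3,0,7,4,1,5,2,7,4,5]),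
  (1, 1, []),(2, 4, [4,7,5,1,4,7,2,5,3,0,5,6,3,7,4,1,6,3,0,4]),(1, 1, []),(1, 1, []),
  (2, 3, [4,7,6,3,0,4,6,3]),(1, 1, []),(1, 1, []),(1, 1, []),
  (1, 1, []),(1, 1, []),(1, 1, []),(2, 4, [4,7,5,1,4,7,2,5,3,0,5,2,6,3,7,5]),
  (2, 3, [4,7,5,1,4,2,3,0,6,3,4,1,6,4,7,4,1,5,6,4]),(1, 1, []),(1, 1, []),(1, 1, []),
  (1, 1, []),(1, 1, []),(2, 3, [4,7,6,3,0,4,6]),(1, 1, []),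
  (2, 3, [4,7,5,1,4,3,5,6,4,1,7,4,5,2,6,3,7,5]),(1, 1, []),(2, 4, [4,7,5,1,4,7,2,5,3,0,5,2,6,7,4,1,5,7,4]),(1, 1, []),
  (1, 1, []),(2, 4, [4,7,5,1,4,7,2,5,3,0,5,2,6,7,5]),(1, 1, []),(2, 3, [4,7,5,1,4,3,0,5,6,3,4,1,6,4]),
  (2, 4, [4,7,5,1,4,7,2,5,3,0,6,3,4,1,6,4]),(1, 1, []),(1, 1, []),(1, 1, []),
  (2, 3, [4,7,5,1,4,2,4,6,7,4,1,5,2,7,4,5]),(2, 3, [5,2,7,5]),(2, 3, [4,7,5,1,4,2,3,0,6,3,4,1,6,4,7,4,1,6,4]),(2, 3, []),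
  (2, 3, [4,7,5,1,4,2,4,6,3,7,4,1,5,2,7,4,5]),(2, 4, [4,7,5,1,4,7,2,5,3,0,5,6,3,7,4,1,6,3,4]),(2, 2, [3,6,4,7,5,1,4,7,6,4,3,6,1,6,7,4,1,5,2,7,4,5]),(2, 2, [3,6,4,7,5,1,4,7,6,4,3,6,1,4,2,4,1,5,7,4,5,2,7,5]),
  (2, 4, [4,7,5,1,4,7,2,5,3,0,5,6,3,4,1,6,4]),(2, 2, [3,6,4,7,5,1,4,7,6,4,3,6,1,4,2,4,1,5,7,4]),(2, 2, []),(2, 1, [3,0,6,3,4,1,6,4])]


end CfsgLib.CoTwoEnd
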