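import Mathlib

/-!
# Tables for the endgame of Co2
-/

set_option autoImplicit false
set_option maxRecDepth 20000

namespace CfsgLib.CoTwoEnd

/-- The products with a representative. -/
def qr0 : List (ℕ × ℕ × List ℕ) := [(0, 0, []),(2, 1, [2,5,16,2,3,0,4,1]),(2, 1, [2,5,16,2,4,1]),(2, 1, [8,16,3,0]),
  (2, 1, [2,5,16,2]),(2, 1, [2,16,3,0,4,1]),(2, 1, [2,16,4,1]),(2, 1, [2,16,3,0]),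
  (2, 1, [2,16,8]),(2, 1, [2,5,16,2,3,4,1]),(2, 1, [8,16,3,0,4]),(2, 1, [8,16,3,4,6]),
  (2, 1, [2,5,16,3,0,4,1]),(2, 1, [8,16,3,4,16,5,13,16]),(2, 1, [8,16,2,3,0,4,7]),(1, 1, []),
  (2, 1, [8,16,3,4,16,0,16,3]),(2, 1, [2,5,16,2,4]),(2, 1, [2,16,3,0,4,16,9,16,7]),(2, 1, [2,5,16,4,1]),
  (1, 1, []),(2, 1, [2,5,16,4,7]),(2, 1, [8,16,3]),(2, 1, [4,16,4,7,16,3,0]),
  (1, 1, []),(2, 1, [8,16,2,3,0]),(2, 1, [8,16,3,4,16,1,13,16,4]),(1, 1, []),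
  (2, 1, [8,16,4,1,7,4]),(2, 1, [2,16,3,16,0,2,3,16,0]),(2, 1, [8,16,2]),(1, 1, []),
  (2, 1, [2,16,3,4,1]),(2, 1, [2,16,3,0,4]),(2, 1, [2,16,3,4,6]),(1, 1, []),
  (2, 1, [2,16,3,0,4,1,6,3,9]),(2, 1, [2,16,4,8]),(1, 1, []),(2, 1, [2,16,3,8]),
  (1, 1, []),(2, 1, [8,16,3,4,16,0,16]),(2, 1, [8,16,3,0,4,6]),(2, 1, [2,5,16,3,4,6,16,6,14,16]),
  (2, 1, [8,16,3,0,4,16,5,13,16]),(1, 1, []),(1, 1, []),(2, 1, [8,16,3,4,16,9,16]),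
  (2, 1, [2,4,5,16,4,7,16,3,0]),(1, 1, []),(2, 1, [2,5,16,3,0,4,1,7]),(1, 1, []),
  (1, 1, []),(2, 1, [8,16,3,0,4,16,13,5,16]),(2, 1, [2,5,16,3,4,1,6,7]),(1, 1, []),
  (1, 1, []),(2, 1, [2,5,16,3,4,16,10,6,16]),(2, 1, [8,16,3,0,4,7]),(1, 1, []),
  (1, 1, []),(2, 1, [8,16,2,3,4,16,6,16,2]),(1, 1, []),(1, 1, []),
  (1, 1, []),(2, 1, [2,16]),(2, 1, [8,16,3,4,16,9,16,4]),(2, 1, [8,16,2,3,4,6,7,4,1]),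
  (1, 1, []),(1, 1, []),(2, 1, [2,5,16,3,0,4,6,3,7]),(1, 1, []),
  (2, 1, [8,16,4,1,7]),(1, 1, []),(2, 1, [2,5,16,4,1,7]),(1, 1, []),
  (2, 1, [2,16,3,4,6,16,9,16]),(1, 1, []),(2, 1, [2,16,3,4,1,16,9,16]),(1, 1, []),
  (1, 1, []),(2, 1, [2,4,7,16,4,16]),(2, 1, [2,16,3,0,9]),(1, 1, []),
  (1, 1, []),(1, 1, []),(1, 1, []),(2, 1, [2,3,5,16,2,3,0,16,3,9,16]),
  (2, 1, [8,16,3,0,4,16,1,13,16,4]),(1, 1, []),(1, 1, []),(2, 1, [2,16,3,0,4,16,1,16]),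
  (2, 1, [2,16,3,4,6,16,1,16]),(2, 1, [2,16,4,1,10]),(1, 1, []),(1, 1, []),
  (1, 1, []),(2, 1, [8,16,2,3,4,16,14,6,16,4]),(1, 1, []),(2, 1, [2,16,3,0,4,1,11]),
  (1, 1, []),(1, 1, []),(1, 1, []),(1, 1, []),
  (2, 1, [2,16,3,4,16,0,16,4]),(2, 1, [2,4,7,16,4,16,5]),(1, 1, []),(2, 1, [2,16,3,16,0,2,3,16,9]),
  (1, 1, []),(2, 1, [8,16]),(1, 1, []),(1, 1, []),
  (1, 1, []),(1, 1, []),(2, 1, [2,16,3,0,4,1,6,9]),(2, 1, [2,16,3,0,4,6]),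
  (1, 1, []),(2, 1, [2,16,3,4,1,6]),(1, 1, []),(2, 1, [2,5,16,2,3,0]),
  (1, 1, []),(1, 1, []),(1, 1, []),(2, 1, [2,16,3,0,4,6,3]),
  (1, 1, []),(2, 1, [8,16,4,1]),(1, 1, []),(1, 1, []),
  (2, 1, [8,16,3,0,4,1]),(2, 1, [8,16,3,4]),(2, 1, [2,5,16,3,4,6,16,6,16]),(1, 1, []),
  (1, 1, []),(1, 1, []),(1, 1, []),(2, 1, [8,16,3,4,16,13,5,16]),
  (1, 1, []),(1, 1, []),(1, 1, []),(2, 1, [2,5,16,3,4,1]),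
  (1, 1, []),(1, 1, []),(1, 1, []),(1, 1, []),
  (1, 1, []),(2, 1, [2,5,16,3,0,4,7]),(2, 1, [2,5,16,3,4,7]),(2, 1, [8,16,2,4,7]),
  (1, 1, []),(1, 1, []),(2, 1, [8,16,2,3,4,6,7]),(1, 1, []),
  (1, 1, []),(1, 1, []),(2, 1, [8,16,2,3,0,4]),(1, 1, []),
  (2, 1, [2,5,16,3,4,16,12,7,16]),(1, 1, []),(2, 1, [8,16,3,4,16,13,16]),(1, 1, []),
  (1, 1, []),(2, 1, [8,16,2,3,4,16,6,16,7,4]),(2, 1, [8,16,2,3,0,4,1]),(1, 1, []),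
  (1, 1, []),(2, 1, [8,16,2,3,4,6]),(1, 1, []),(2, 1, [2,5,16,3,4,16,0,16,3]),
  (1, 1, []),(1, 1, []),(1, 1, []),(2, 1, [2,5,16]),
  (2, 1, [2,5,16,2,3,4,6]),(1, 1, []),(1, 1, []),(2, 1, [2,5,16,3,4,6]),
  (1, 1, []),(2, 1, [8,16,2,3,4,16,6,16]),(1, 1, []),(1, 1, []),
  (1, 1, []),(2, 1, [2,16,3,4,6,8]),(2, 1, [2,5,16,2,3,0,4]),(1, 1, []),
  (2, 1, [2,5,16,2,3,4,16,13,16]),(1, 1, []),(1, 1, []),(2, 1, [2,16,4]),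
  (2, 1, [8,16,3,4,1]),(2, 1, [8,16,2,3,4,7]),(2, 1, [2,16,3]),(2, 0, []),
  (1, 1, []),(1, 1, []),(1, 1, []),(2, 1, [4,7,16,3,0,4,6,3,16]),
  (1, 1, []),(1, 1, []),(1, 1, []),(2, 1, [8,16,3,0,4,6,7,4]),
  (2, 1, [8,16,2,4,1]),(2, 1, [8,16,2,3,0,4,1,6,3]),(1, 1, []),(2, 1, [2,5,16,3,0]),
  (1, 1, []),(1, 1, []),(2, 1, [2,16,3,4,16,0,16,7]),(1, 1, []),
  (2, 1, [2,16,3,16,0,2,3,16,0,4]),(1, 1, []),(1, 1, []),(1, 1, []),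
  (2, 1, [8,16,2,4]),(2, 1, [2,16,3,16,0,13,3,16]),(1, 1, []),(1, 1, []),
  (2, 1, [8,16,4]),(1, 1, []),(2, 1, [2,16,3,16,0,13,3,16,4]),(1, 1, []),
  (1, 1, []),(1, 1, []),(2, 1, [2,16,3,4,7,16,0,16]),(2, 1, [2,16,3,0,4,9]),
  (1, 1, []),(1, 1, []),(2, 1, [8,16,3,0,4,1,6,3]),(2, 1, [2,5,16,3,0,4,1,6,3]),
  (1, 1, []),(2, 1, [2,16,3,0,4,1,6,3]),(1, 1, []),(1, 1, []),
  (2, 1, [8,16,3,0,4,1,7,4]),(2, 1, [4,16,4,7,16,3]),(1, 1, []),(1, 1, []),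
  (2, 1, [4,16,4,7,16]),(1, 1, []),(1, 1, []),(1, 1, []),
  (2, 1, [2,5,16,3]),(1, 1, []),(2, 1, [2,5,16,2,3]),(2, 1, [8,16,3,4,1,7,4]),
  (1, 1, []),(1, 1, []),(2, 1, [2,16,3,4,1,10]),(1, 1, []),
  (1, 1, []),(1, 1, []),(2, 1, [4,16,4,7,16,3,6]),(1, 1, []),
  (1, 1, []),(1, 1, []),(1, 1, []),(1, 1, []),
  (1, 1, []),(1, 1, []),(1, 1, []),(1, 1, []),
  (1, 1, []),(2, 1, [2,16,3,4,16,9,16,4]),(1, 1, []),(1, 1, []),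
  (1, 1, []),(1, 1, []),(1, 1, []),(1, 1, []),
  (1, 1, []),(1, 1, []),(1, 1, []),(2, 1, [2,16,3,4,8]),
  (1, 1, []),(1, 1, []),(1, 1, []),(1, 1, []),
  (1, 1, []),(1, 1, []),(1, 1, []),(1, 1, []),
  (1, 1, []),(1, 1, []),(1, 1, []),(1, 1, []),
  (1, 1, []),(1, 1, []),(2, 1, [2,16,3,4,16,10,6,16,3]),(2, 1, [2,16,3,4,16,6,16,3]),
  (2, 1, [8,16,3,4,16,9,13,16]),(2, 1, [8,16,2,3,0,4,1,7]),(2, 1, [2,5,16,3,0,4,6,7]),(2, 1, [8,16,2,3,0,4,6,3,7]),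
  (2, 1, [8,16,3,4,6,7,16,6,16]),(1, 1, []),(2, 1, [2,5,16,3,4,1,6,7,4]),(2, 1, [2,5,16,3,4,1,16,9,16]),
  (1, 1, []),(1, 1, []),(1, 1, []),(2, 1, [8,16,2,3,4,1,6,7]),
  (2, 1, [8,16,3,4,16,14,16]),(2, 1, [8,16,2,4,1,7]),(2, 1, [2,5,16,2,3,0,4,6]),(1, 1, []),
  (2, 1, [2,5,16,3,4,16,14,9,16]),(2, 1, [2,5,16,3,4,16,13,16,6]),(1, 1, []),(1, 1, []),
  (1, 1, []),(2, 1, [2,4,7,16,4,16,3,0]),(2, 1, [2,5,16,3,4,16,1,9,16]),(2, 1, [8,16,3,4,1,7,4,16,6,13,16]),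
  (2, 1, [8,16,3,0,4,1,6]),(2, 1, [8,16,3,4,1,6,7,4,1]),(2, 1, [8,16,2,3,4,16,9,16,2]),(2, 1, [2,5,16,3,4,7,16,13,16]),
  (2, 1, [2,16,3,4,7,16,0,16,3]),(2, 1, [8,16,4,7]),(2, 1, [8,16,3,0,4,1,7]),(2, 1, [2,5,16,3,4,16,10,0,16]),
  (1, 1, []),(2, 1, [8,16,3,4,6,7]),(2, 1, [8,16,3,4,16,10,13,16]),(1, 1, []),
  (2, 1, [8,16,3,4,16,0,13,16]),(1, 1, []),(1, 1, []),(2, 1, [2,5,16,3,0,4,16,6,16,7,4]),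
  (2, 1, [8,16,3,4,1,6]),(2, 1, [2,5,16,3,4,16,0,10,16]),(1, 1, []),(2, 1, [2,4,7,16,4,16,3,6]),
  (2, 1, [2,5,16,3,4,6,16,9,16]),(1, 1, []),(2, 1, [8,16,3,4,16,12,7,16]),(1, 1, []),
  (1, 1, []),(2, 1, [8,16,3,4,6,7,5]),(2, 1, [4,16,4,7,16,3,6,4]),(2, 1, [8,16,2,3,0,4,6,7]),
  (2, 1, [2,5,16,3,4,16,14,6,16,4]),(1, 1, []),(2, 1, [2,16,3,4,16,6,16,3,7,4]),(2, 1, [8,16,3,4,16,9,16,7]),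
  (1, 1, []),(2, 1, [8,16,3,4,1,16,10,13,16]),(1, 1, []),(1, 1, []),
  (2, 1, [8,16,4,7,5]),(2, 1, [2,5,16,2,3,4,16,14,16]),(2, 1, [2,16,3,16,0,2,3,16]),(1, 1, []),
  (2, 1, [8,16,3,4,1,7,16,6,16]),(2, 1, [8,16,3,4,1,6,7]),(1, 1, []),(2, 1, [8,16,3,4,6,7,4,5]),
  (1, 1, []),(1, 1, []),(2, 1, [2,16,3,0,4,6,8]),(2, 1, [2,5,16,3,0,4,16,6,16]),
  (2, 1, [2,16,3,4,1,6,8]),(2, 1, [8,16,3,4,1,6,7,4,5]),(2, 1, [8,16,2,3,4,16,1,9,16,2]),(2, 1, [2,16,3,0,4,6,3,8]),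
  (2, 1, [2,16,3,4,6,16,6,16]),(2, 1, [2,16,3,4,16,0,10,16]),(2, 1, [8,16,2,3,4,6,7,4]),(1, 1, []),
  (2, 1, [2,4,5,16,4,7,16]),(2, 1, [8,16,2,3,4,16,0,16,4]),(1, 1, []),(2, 1, [2,5,16,3,4,16,14,9,1,16,4]),
  (1, 1, []),(1, 1, []),(2, 1, [8,16,3,0,4,6,3]),(2, 1, [2,16,3,4,16,10,0,16]),
  (2, 1, [2,5,16,3,4,6,7,4]),(1, 1, []),(2, 1, [2,16,3,4,16,10,6,16]),(2, 1, [2,16,3,4,16,6,16]),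
  (1, 1, []),(2, 1, [8,16,3,0,4,7,5]),(1, 1, []),(1, 1, []),
  (2, 1, [8,16,3,0,4,6,3,7]),(2, 1, [2,16,3,4,16,0,16]),(1, 1, []),(2, 1, [2,16,3,4,16,9,16]),
  (2, 1, [2,5,16,3,4,16,0,16,4]),(1, 1, []),(2, 1, [4,16,2,3,0,4,6,3,16]),(1, 1, []),
  (1, 1, []),(2, 1, [2,16,3,0,4,16,9,16]),(1, 1, []),(2, 1, [2,16,3,0,4,16,0,16]),
  (2, 1, [8,16,3,4,6,7,4,1]),(1, 1, []),(2, 1, [2,16,3,0,4,1,6]),(1, 1, []),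
  (1, 1, []),(2, 1, [2,5,16,3,4,16,9,16,4]),(2, 1, [2,16,3,4,1,16,10,16]),(2, 1, [2,16,3,4,8,16,10,16]),
  (1, 1, []),(1, 1, []),(1, 1, []),(1, 1, []),
  (2, 1, [4,16,4,7,16,3,0,6]),(2, 1, [2,16,3,4,16,10,16]),(1, 1, []),(1, 1, []),
  (1, 1, []),(1, 1, []),(1, 1, []),(1, 1, []),
  (1, 1, []),(1, 1, []),(1, 1, []),(1, 1, []),
  (1, 1, []),(1, 1, []),(2, 1, [8,16,2,3,4,6,16,6,16]),(2, 1, [2,4,5,16,4,7,16,3]),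
  (2, 1, [2,5,16,3,0,4,16,14,6,16]),(2, 1, [2,16,3,0,4,16,5,13,16]),(2, 1, [8,16,3,4,16,13,16,6]),(2, 1, [2,16,3,0,4,16,9,16,3]),
  (2, 1, [8,16,3,0,4,16,1,13,16]),(2, 1, [2,5,16,3,4,6,7]),(2, 1, [8,16,2,3,4,1,7]),(2, 1, [8,16,3,4,16,14,16,3]),
  (2, 1, [2,5,16,2,3,4]),(2, 1, [8,16,3,4,1,7]),(2, 1, [2,5,16,3,4,16,14,9,1,16]),(2, 1, [2,16,3,4,16,5,9,16]),
  (2, 1, [8,16,2,3,4,1]),(2, 1, [8,16,2,3,0,4,1,6]),(2, 1, [8,16,3,0,4,6,7]),(2, 1, [2,5,16,3,0,4]),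
  (2, 1, [8,16,2,3,4,16,9,16]),(2, 1, [2,5,16,3,4,16,5,9,16]),(1, 1, []),(2, 1, [2,5,16,3,4,16,14,16]),
  (2, 1, [8,16,2,3,0,4,6]),(1, 1, []),(2, 1, [2,16,3,4,16,0,16,3]),(2, 1, [2,5,16,3,0,4,16,6,16,7]),
  (2, 1, [8,16,3,4,16,13,14,16]),(2, 1, [2,5,16,3,4,16,9,16,7]),(2, 1, [2,5,16,4]),(2, 1, [8,16,2,3,4,16,14,16]),
  (2, 1, [2,5,16,3,0,4,6]),(1, 1, []),(2, 1, [2,5,16,3,0,4,1,6]),(2, 1, [8,16,2,3,4,16,10,16]),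
  (2, 1, [2,5,16,3,4,16,6,16]),(2, 1, [2,4,7,16,4,16,3]),(2, 1, [8,16,3,4,1,7,4,16,6,16]),(1, 1, []),
  (2, 1, [8,16,2,3,4,16,0,16]),(1, 1, []),(2, 1, [2,5,16,3,4,1,6]),(2, 1, [2,5,16,3,4,16,10,0,16,2]),
  (2, 1, [2,5,16,3,4,1,7]),(2, 1, [8,16,2,3]),(2, 1, [2,5,16,3,4,16,0,16]),(1, 1, []),
  (2, 1, [8,16,2,3,4,1,6]),(2, 1, [2,5,16,3,4,16,13,16]),(2, 1, [2,5,16,3,4,16,9,16]),(2, 1, [8,16,3,4,1,6,7,5]),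
  (2, 1, [8,16,3,4,16,14,16,4]),(2, 1, [8,16,3,4,1,16,13,14,16]),(2, 1, [8,16,3,4,1,6,7,4]),(2, 1, [2,16,3,0,4,16,0,16,4]),
  (2, 1, [2,5,16,3,4,16,13,1,16]),(2, 1, [8,16,2,3,4,16,13,16]),(2, 1, [8,16,3,4,7]),(2, 1, [2,16,3,4]),
  (1, 1, []),(2, 1, [8,16,3,4,6,7,4]),(2, 1, [2,16,3,0,4,16,6,16]),(2, 1, [2,5,16,3,0,4,6,3]),
  (1, 1, []),(2, 1, [2,4,7,16,4,16,3,6,4]),(2, 1, [2,16,3,4,16,1,9,16]),(2, 1, [2,5,16,3,0,4,6,7,4]),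
  (2, 1, [8,16,3,4,6,7,4,16,10,16]),(2, 1, [8,16,2,3,0,4,6,3]),(2, 1, [2,16,3,4,1,16,9,16,7]),(2, 1, [8,16,2,3,0,4,6,7,4]),
  (2, 1, [8,16,3,4,7,5]),(2, 1, [2,4,7,16,4,16,3,5]),(1, 1, []),(1, 1, []),
  (1, 1, []),(1, 1, []),(1, 1, []),(1, 1, []),
  (1, 1, []),(1, 1, []),(1, 1, []),(1, 1, []),
  (1, 1, []),(1, 1, []),(1, 1, []),(1, 1, []),
  (1, 1, []),(1, 1, []),(2, 1, [2,5,16,3,4]),(2, 1, [8,16,2,3,4])]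

end CfsgLib.CoTwoEnd
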