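import Mathlib

/-!
# Tables for the endgame of Co2
-/

set_option autoImplicit false
set_option maxRecDepth 20000

namespace CfsgLib.CoTwoEnd

/-- The products with a representative. -/
def qr1 : List (ℕ × ℕ × List ℕ) := [(2, 0, [16,2,4,1,16,4,16]),(1, 1, []),(2, 0, [16,2,4,1,16,4,16,8]),(1, 1, []),
  (2, 0, [16,2,4,1,16,4,1,16]),(1, 1, []),(2, 0, [16,4,1,16,4,16]),(1, 1, []),
  (2, 2, [14]),(1, 1, []),(1, 1, []),(1, 1, []),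
  (1, 1, []),(1, 1, []),(1, 1, []),(1, 1, []),
  (1, 1, []),(2, 0, [16,4,16,1,4,16,2]),(1, 1, []),(2, 0, [16,4,1,16,4,16,5]),
  (1, 1, []),(2, 0, [16,4,16,1,4,16,7]),(1, 1, []),(1, 1, []),
  (1, 1, []),(1, 1, []),(1, 1, []),(1, 1, []),
  (2, 2, [10,12]),(1, 1, []),(2, 2, [10,2]),(1, 1, []),
  (1, 1, []),(1, 1, []),(1, 1, []),(1, 1, []),
  (1, 1, []),(2, 2, [12,1]),(1, 1, []),(1, 1, []),
  (1, 1, []),(1, 1, []),(1, 1, []),(1, 1, []),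
  (1, 1, []),(1, 1, []),(1, 1, []),(1, 1, []),
  (1, 1, []),(1, 1, []),(1, 1, []),(1, 1, []),
  (1, 1, []),(1, 1, []),(1, 1, []),(1, 1, []),
  (1, 1, []),(1, 1, []),(1, 1, []),(1, 1, []),
  (1, 1, []),(1, 1, []),(1, 1, []),(1, 1, []),
  (1, 1, []),(2, 0, [16,2,4,1,16,4,16,14]),(1, 1, []),(1, 1, []),
  (1, 1, []),(1, 1, []),(1, 1, []),(1, 1, []),
  (2, 2, [8,7]),(1, 1, []),(2, 0, [16,4,16,1,4,16,12]),(1, 1, []),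
  (1, 1, []),(1, 1, []),(1, 1, []),(1, 1, []),
  (1, 1, []),(2, 0, [16,4,16,1,4,16,10]),(1, 1, []),(1, 1, []),
  (1, 1, []),(1, 1, []),(1, 1, []),(1, 1, []),
  (1, 1, []),(1, 1, []),(1, 1, []),(1, 1, []),
  (1, 1, []),(2, 2, [12]),(1, 1, []),(1, 1, []),
  (1, 1, []),(1, 1, []),(1, 1, []),(1, 1, []),
  (1, 1, []),(1, 1, []),(1, 1, []),(1, 1, []),
  (1, 1, []),(2, 0, [16,4,1,16,4,10,16]),(1, 1, []),(1, 1, []),
  (1, 1, []),(2, 2, [10]),(1, 1, []),(1, 1, []),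
  (1, 1, []),(1, 1, []),(1, 1, []),(1, 1, []),
  (1, 1, []),(1, 1, []),(1, 1, []),(1, 1, []),
  (1, 1, []),(1, 1, []),(1, 1, []),(1, 1, []),
  (1, 1, []),(2, 2, [8]),(1, 1, []),(1, 1, []),
  (1, 1, []),(1, 1, []),(1, 1, []),(1, 1, []),
  (1, 1, []),(1, 1, []),(1, 1, []),(1, 1, []),
  (1, 1, []),(1, 1, []),(1, 1, []),(1, 1, []),
  (1, 1, []),(1, 1, []),(1, 1, []),(1, 1, []),
  (1, 1, []),(1, 1, []),(1, 1, []),(2, 2, [8,14]),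
  (1, 1, []),(1, 1, []),(1, 1, []),(1, 1, []),
  (1, 1, []),(1, 1, []),(1, 1, []),(1, 1, []),
  (1, 1, []),(1, 1, []),(1, 1, []),(1, 1, []),
  (1, 1, []),(1, 1, []),(1, 1, []),(1, 1, []),
  (1, 1, []),(1, 1, []),(1, 1, []),(1, 1, []),
  (1, 1, []),(1, 1, []),(1, 1, []),(2, 0, [16,4,16,1,4,16,4]),
  (1, 1, []),(1, 1, []),(1, 1, []),(1, 1, []),
  (1, 1, []),(1, 1, []),(1, 1, []),(1, 1, []),
  (1, 1, []),(1, 1, []),(1, 1, []),(1, 1, []),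
  (1, 1, []),(1, 1, []),(1, 1, []),(2, 0, [16,4,1,16,4,16,1]),
  (1, 1, []),(1, 1, []),(1, 1, []),(2, 2, []),
  (1, 1, []),(1, 1, []),(1, 1, []),(1, 1, []),
  (1, 1, []),(1, 1, []),(1, 1, []),(1, 1, []),
  (2, 2, [8,2]),(1, 1, []),(1, 1, []),(1, 1, []),
  (1, 1, []),(1, 1, []),(1, 1, []),(1, 1, []),
  (1, 1, []),(1, 1, []),(1, 1, []),(1, 1, []),
  (2, 2, [8,1,2]),(1, 1, []),(1, 1, []),(1, 1, []),
  (2, 2, [8,1]),(1, 1, []),(1, 1, []),(1, 1, []),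
  (1, 1, []),(1, 1, []),(1, 1, []),(1, 1, []),
  (1, 1, []),(1, 1, []),(1, 1, []),(1, 1, []),
  (1, 1, []),(1, 1, []),(1, 1, []),(1, 1, []),
  (1, 1, []),(1, 1, []),(1, 1, []),(1, 1, []),
  (2, 0, [16,4,1,16,4,16,10]),(1, 1, []),(1, 1, []),(1, 1, []),
  (1, 1, []),(1, 1, []),(1, 1, []),(1, 1, []),
  (1, 1, []),(1, 1, []),(1, 1, []),(1, 1, []),
  (1, 1, []),(1, 1, []),(1, 1, []),(1, 1, []),
  (1, 1, []),(1, 1, []),(1, 1, []),(1, 1, []),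
  (1, 1, []),(1, 1, []),(1, 1, []),(1, 1, []),
  (1, 1, []),(1, 1, []),(1, 1, []),(1, 1, []),
  (1, 1, []),(1, 1, []),(1, 1, []),(1, 1, []),
  (1, 1, []),(1, 1, []),(1, 1, []),(1, 1, []),
  (1, 1, []),(1, 1, []),(1, 1, []),(1, 1, []),
  (1, 1, []),(1, 1, []),(1, 1, []),(1, 1, []),
  (1, 1, []),(1, 1, []),(1, 1, []),(1, 1, []),
  (1, 1, []),(1, 1, []),(1, 1, []),(1, 1, []),
  (1, 1, []),(1, 1, []),(1, 1, []),(1, 1, []),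
  (1, 1, []),(1, 1, []),(1, 1, []),(1, 1, []),
  (1, 1, []),(1, 1, []),(1, 1, []),(1, 1, []),
  (1, 1, []),(2, 2, [8,1,14]),(1, 1, []),(1, 1, []),
  (1, 1, []),(1, 1, []),(1, 1, []),(1, 1, []),
  (1, 1, []),(1, 1, []),(1, 1, []),(1, 1, []),
  (1, 1, []),(1, 1, []),(1, 1, []),(1, 1, []),
  (1, 1, []),(2, 2, [8,1,7]),(1, 1, []),(1, 1, []),
  (1, 1, []),(1, 1, []),(1, 1, []),(1, 1, []),
  (1, 1, []),(1, 1, []),(1, 1, []),(1, 1, []),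
  (1, 1, []),(1, 1, []),(1, 1, []),(1, 1, []),
  (1, 1, []),(1, 1, []),(1, 1, []),(1, 1, []),
  (1, 1, []),(1, 1, []),(1, 1, []),(1, 1, []),
  (1, 1, []),(1, 1, []),(1, 1, []),(1, 1, []),
  (1, 1, []),(1, 1, []),(1, 1, []),(1, 1, []),
  (2, 2, [10,2,12]),(1, 1, []),(1, 1, []),(1, 1, []),
  (1, 1, []),(1, 1, []),(1, 1, []),(1, 1, []),
  (1, 1, []),(1, 1, []),(1, 1, []),(1, 1, []),
  (1, 1, []),(1, 1, []),(1, 1, []),(1, 1, []),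
  (1, 1, []),(1, 1, []),(1, 1, []),(1, 1, []),
  (2, 0, [16,4,1,7,4,8,16]),(1, 1, []),(1, 1, []),(1, 1, []),
  (1, 1, []),(1, 1, []),(1, 1, []),(1, 1, []),
  (1, 1, []),(1, 1, []),(1, 1, []),(1, 1, []),
  (1, 1, []),(1, 1, []),(1, 1, []),(1, 1, []),
  (1, 1, []),(1, 1, []),(1, 1, []),(1, 1, []),
  (1, 1, []),(1, 1, []),(1, 1, []),(1, 1, []),
  (1, 1, []),(1, 1, []),(1, 1, []),(1, 1, []),
  (1, 1, []),(1, 1, []),(1, 1, []),(1, 1, []),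
  (1, 1, []),(1, 1, []),(1, 1, []),(1, 1, []),
  (1, 1, []),(1, 1, []),(1, 1, []),(1, 1, []),
  (1, 1, []),(1, 1, []),(1, 1, []),(1, 1, []),
  (1, 1, []),(1, 1, []),(1, 1, []),(1, 1, []),
  (1, 1, []),(1, 1, []),(1, 1, []),(1, 1, []),
  (1, 1, []),(1, 1, []),(1, 1, []),(1, 1, []),
  (1, 1, []),(1, 1, []),(1, 1, []),(1, 1, []),
  (1, 1, []),(1, 1, []),(1, 1, []),(1, 1, []),
  (1, 1, []),(1, 1, []),(1, 1, []),(1, 1, []),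
  (1, 1, []),(1, 1, []),(1, 1, []),(1, 1, []),
  (1, 1, []),(1, 1, []),(1, 1, []),(1, 1, []),
  (1, 1, []),(1, 1, []),(1, 1, []),(1, 1, []),
  (1, 1, []),(1, 1, []),(2, 0, [16,4,16,1,4,16]),(1, 1, []),
  (1, 1, []),(1, 1, []),(1, 1, []),(1, 1, []),
  (1, 1, []),(1, 1, []),(1, 1, []),(1, 1, []),
  (1, 1, []),(1, 1, []),(1, 1, []),(1, 1, []),
  (1, 1, []),(1, 1, []),(1, 1, []),(1, 1, []),
  (1, 1, []),(1, 1, []),(1, 1, []),(1, 1, []),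
  (1, 1, []),(1, 1, []),(1, 1, []),(1, 1, []),
  (1, 1, []),(1, 1, []),(1, 1, []),(1, 1, []),
  (1, 1, []),(1, 1, []),(1, 1, []),(1, 1, []),
  (1, 1, []),(1, 1, []),(1, 1, []),(1, 1, []),
  (1, 1, []),(1, 1, []),(1, 1, []),(1, 1, []),
  (1, 1, []),(1, 1, []),(1, 1, []),(1, 1, []),
  (1, 1, []),(1, 1, []),(1, 1, []),(1, 1, []),
  (1, 1, []),(1, 1, []),(1, 1, []),(1, 1, []),
  (1, 1, []),(1, 1, []),(1, 1, []),(1, 1, []),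
  (1, 1, []),(1, 1, []),(1, 1, []),(1, 1, [])]

end CfsgLib.CoTwoEnd
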