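import Mathlib

/-!
# Tables for the endgame of Co2
-/

set_option autoImplicit false
set_option maxRecDepth 20000

namespace CfsgLib.CoTwoEnd

/-- The products with a representative. -/
def qr2 : List (ℕ × ℕ × List ℕ) := [(2, 1, [4,1,7,16,3,0,4,6,3,8]),(1, 1, []),(1, 1, []),(1, 1, []),
  (2, 1, [3,0,16,2,3,4,16,0,16,4]),(1, 1, []),(1, 1, []),(1, 1, []),
  (2, 2, [3,0,6,3,8,13,16,8]),(1, 1, []),(1, 1, []),(1, 1, []),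
  (1, 1, []),(1, 1, []),(1, 1, []),(1, 1, []),
  (2, 2, [3,0,6,9,3,16]),(1, 1, []),(1, 1, []),(1, 1, []),
  (1, 1, []),(1, 1, []),(1, 1, []),(1, 1, []),
  (1, 1, []),(1, 1, []),(1, 1, []),(1, 1, []),
  (1, 1, []),(1, 1, []),(2, 2, [3,0,6,9,3,13,16,8]),(1, 1, []),
  (1, 1, []),(1, 1, []),(1, 1, []),(1, 1, []),
  (2, 1, [3,0,4,1,7,4,5,6,3,8,16]),(1, 1, []),(1, 1, []),(1, 1, []),
  (1, 1, []),(1, 1, []),(1, 1, []),(1, 1, []),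
  (1, 1, []),(1, 1, []),(1, 1, []),(1, 1, []),
  (1, 1, []),(1, 1, []),(1, 1, []),(1, 1, []),
  (1, 1, []),(1, 1, []),(1, 1, []),(1, 1, []),
  (1, 1, []),(1, 1, []),(1, 1, []),(1, 1, []),
  (1, 1, []),(1, 1, []),(1, 1, []),(1, 1, []),
  (1, 1, []),(2, 1, [3,0,16,3,4,16,9,16,4]),(2, 2, [3,0,6,3,8,16]),(1, 1, []),
  (1, 1, []),(1, 1, []),(2, 2, [3,0,6,9,3,13,16]),(1, 1, []),
  (1, 1, []),(1, 1, []),(1, 1, []),(1, 1, []),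
  (1, 1, []),(1, 1, []),(1, 1, []),(1, 1, []),
  (1, 1, []),(1, 1, []),(1, 1, []),(1, 1, []),
  (1, 1, []),(1, 1, []),(1, 1, []),(1, 1, []),
  (1, 1, []),(1, 1, []),(1, 1, []),(1, 1, []),
  (1, 1, []),(1, 1, []),(1, 1, []),(1, 1, []),
  (1, 1, []),(1, 1, []),(1, 1, []),(1, 1, []),
  (1, 1, []),(1, 1, []),(1, 1, []),(1, 1, []),
  (2, 2, [3,0,6,3,8,13,16,2,5]),(1, 1, []),(1, 1, []),(1, 1, []),
  (1, 1, []),(2, 2, [3,0,6,9,3,16,8]),(1, 1, []),(1, 1, []),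
  (1, 1, []),(1, 1, []),(1, 1, []),(1, 1, []),
  (1, 1, []),(1, 1, []),(1, 1, []),(1, 1, []),
  (1, 1, []),(1, 1, []),(1, 1, []),(2, 2, [3,0,6,3,8,16,2,5]),
  (1, 1, []),(1, 1, []),(1, 1, []),(1, 1, []),
  (1, 1, []),(1, 1, []),(1, 1, []),(1, 1, []),
  (1, 1, []),(1, 1, []),(1, 1, []),(1, 1, []),
  (1, 1, []),(1, 1, []),(1, 1, []),(1, 1, []),
  (1, 1, []),(1, 1, []),(1, 1, []),(1, 1, []),
  (1, 1, []),(1, 1, []),(1, 1, []),(1, 1, []),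
  (1, 1, []),(1, 1, []),(1, 1, []),(1, 1, []),
  (1, 1, []),(1, 1, []),(1, 1, []),(1, 1, []),
  (1, 1, []),(1, 1, []),(1, 1, []),(1, 1, []),
  (1, 1, []),(1, 1, []),(1, 1, []),(1, 1, []),
  (1, 1, []),(1, 1, []),(1, 1, []),(1, 1, []),
  (1, 1, []),(1, 1, []),(1, 1, []),(2, 1, [3,0,16,3,4,16,0,16,4]),
  (1, 1, []),(1, 1, []),(1, 1, []),(1, 1, []),
  (1, 1, []),(1, 1, []),(1, 1, []),(1, 1, []),
  (1, 1, []),(1, 1, []),(1, 1, []),(1, 1, []),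
  (1, 1, []),(1, 1, []),(1, 1, []),(1, 1, []),
  (1, 1, []),(1, 1, []),(1, 1, []),(2, 2, [3,0,6,3,8,16,8]),
  (1, 1, []),(1, 1, []),(1, 1, []),(2, 2, [3,0,6,3,8,13,16]),
  (1, 1, []),(1, 1, []),(1, 1, []),(1, 1, []),
  (1, 1, []),(2, 1, [4,1,7,16,2,3,0,4,1,6,3]),(1, 1, []),(1, 1, []),
  (1, 1, []),(1, 1, []),(1, 1, []),(1, 1, []),
  (1, 1, []),(1, 1, []),(1, 1, []),(1, 1, []),
  (1, 1, []),(1, 1, []),(1, 1, []),(1, 1, []),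
  (1, 1, []),(1, 1, []),(1, 1, []),(1, 1, []),
  (1, 1, []),(1, 1, []),(1, 1, []),(1, 1, []),
  (1, 1, []),(1, 1, []),(2, 1, [4,1,7,16,3,0,4,1,6,3]),(2, 2, [3,0,6,9,3,16,2]),
  (1, 1, []),(2, 2, [3,0,6,9,3,16,2,5]),(1, 1, []),(1, 1, []),
  (1, 1, []),(1, 1, []),(1, 1, []),(1, 1, []),
  (1, 1, []),(1, 1, []),(1, 1, []),(1, 1, []),
  (1, 1, []),(1, 1, []),(1, 1, []),(1, 1, []),
  (1, 1, []),(1, 1, []),(1, 1, []),(1, 1, []),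
  (1, 1, []),(1, 1, []),(1, 1, []),(1, 1, []),
  (1, 1, []),(1, 1, []),(1, 1, []),(1, 1, []),
  (1, 1, []),(1, 1, []),(1, 1, []),(1, 1, []),
  (1, 1, []),(2, 1, [3,0,4,1,7,4,5,6,3,12,16]),(1, 1, []),(1, 1, []),
  (1, 1, []),(1, 1, []),(1, 1, []),(1, 1, []),
  (1, 1, []),(1, 1, []),(1, 1, []),(1, 1, []),
  (1, 1, []),(1, 1, []),(1, 1, []),(1, 1, []),
  (1, 1, []),(1, 1, []),(1, 1, []),(1, 1, []),
  (1, 1, []),(1, 1, []),(1, 1, []),(1, 1, []),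
  (1, 1, []),(1, 1, []),(1, 1, []),(1, 1, []),
  (1, 1, []),(1, 1, []),(1, 1, []),(2, 1, [4,1,7,16,3,4,16,14,16,3]),
  (1, 1, []),(1, 1, []),(1, 1, []),(1, 1, []),
  (1, 1, []),(1, 1, []),(1, 1, []),(1, 1, []),
  (1, 1, []),(1, 1, []),(1, 1, []),(1, 1, []),
  (1, 1, []),(1, 1, []),(1, 1, []),(1, 1, []),
  (1, 1, []),(1, 1, []),(1, 1, []),(1, 1, []),
  (1, 1, []),(1, 1, []),(1, 1, []),(1, 1, []),
  (1, 1, []),(1, 1, []),(1, 1, []),(1, 1, []),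
  (1, 1, []),(1, 1, []),(1, 1, []),(1, 1, []),
  (1, 1, []),(1, 1, []),(1, 1, []),(1, 1, []),
  (1, 1, []),(1, 1, []),(1, 1, []),(1, 1, []),
  (1, 1, []),(1, 1, []),(1, 1, []),(1, 1, []),
  (1, 1, []),(1, 1, []),(1, 1, []),(1, 1, []),
  (1, 1, []),(1, 1, []),(1, 1, []),(1, 1, []),
  (1, 1, []),(1, 1, []),(1, 1, []),(1, 1, []),
  (1, 1, []),(1, 1, []),(1, 1, []),(1, 1, []),
  (1, 1, []),(1, 1, []),(1, 1, []),(1, 1, []),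
  (1, 1, []),(1, 1, []),(1, 1, []),(1, 1, []),
  (1, 1, []),(1, 1, []),(1, 1, []),(2, 1, [3,0,4,1,7,4,6,3,8,16,8]),
  (1, 1, []),(1, 1, []),(1, 1, []),(1, 1, []),
  (1, 1, []),(2, 2, [3,0,6,3,8,13,16,2]),(1, 1, []),(1, 1, []),
  (1, 1, []),(1, 1, []),(2, 1, [4,1,7,16,3,0,4,6,3]),(1, 1, []),
  (1, 1, []),(1, 1, []),(1, 1, []),(1, 1, []),
  (1, 1, []),(1, 1, []),(1, 1, []),(1, 1, []),
  (2, 1, [4,1,7,16,3,0,4,6,3,7]),(1, 1, []),(1, 1, []),(1, 1, []),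
  (2, 1, [3,0,4,1,7,4,6,9,3,16]),(1, 1, []),(2, 1, [4,1,7,5,2,16,3,0,4,6,3]),(1, 1, []),
  (1, 1, []),(1, 1, []),(1, 1, []),(1, 1, []),
  (1, 1, []),(1, 1, []),(1, 1, []),(1, 1, []),
  (1, 1, []),(2, 2, [3,0,6,9,3,13,16,2]),(1, 1, []),(1, 1, []),
  (1, 1, []),(1, 1, []),(1, 1, []),(1, 1, []),
  (1, 1, []),(1, 1, []),(1, 1, []),(1, 1, []),
  (1, 1, []),(1, 1, []),(1, 1, []),(1, 1, []),
  (1, 1, []),(1, 1, []),(1, 1, []),(1, 1, []),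
  (1, 1, []),(1, 1, []),(1, 1, []),(1, 1, []),
  (1, 1, []),(1, 1, []),(1, 1, []),(1, 1, []),
  (1, 1, []),(1, 1, []),(1, 1, []),(2, 1, [3,0,4,1,7,4,6,9,3,16,2]),
  (1, 1, []),(1, 1, []),(1, 1, []),(1, 1, []),
  (1, 1, []),(1, 1, []),(1, 1, []),(1, 1, []),
  (1, 1, []),(1, 1, []),(1, 1, []),(1, 1, []),
  (1, 1, []),(1, 1, []),(1, 1, []),(1, 1, []),
  (1, 1, []),(1, 1, []),(1, 1, []),(1, 1, []),
  (1, 1, []),(1, 1, []),(1, 1, []),(1, 1, []),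
  (1, 1, []),(1, 1, []),(1, 1, []),(1, 1, []),
  (1, 1, []),(1, 1, []),(1, 1, []),(1, 1, []),
  (1, 1, []),(1, 1, []),(1, 1, []),(1, 1, []),
  (1, 1, []),(1, 1, []),(1, 1, []),(1, 1, []),
  (1, 1, []),(1, 1, []),(1, 1, []),(2, 2, [3,0,6,9,3,13,16,2,5]),
  (1, 1, []),(1, 1, []),(1, 1, []),(1, 1, []),
  (1, 1, []),(1, 1, []),(1, 1, []),(2, 2, [3,0,6,3,8,16,2]),
  (1, 1, []),(1, 1, []),(1, 1, []),(1, 1, []),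
  (1, 1, []),(2, 1, [3,0,4,1,7,4,6,3,8,16]),(1, 1, []),(1, 1, []),
  (1, 1, []),(1, 1, []),(1, 1, []),(1, 1, []),
  (1, 1, []),(1, 1, []),(1, 1, []),(1, 1, []),
  (1, 1, []),(1, 1, []),(1, 1, []),(1, 1, []),
  (1, 1, []),(1, 1, []),(1, 1, []),(1, 1, []),
  (1, 1, []),(1, 1, []),(1, 1, []),(1, 1, [])]

end CfsgLib.CoTwoEnd
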