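import Mathlib

/-!
# Tables for the endgame of Co2
-/

set_option autoImplicit false
set_option maxRecDepth 20000

namespace CfsgLib.CoTwoEnd

/-- The products with a representative. -/
def qr3 : List (ℕ × ℕ × List ℕ) := [(2, 2, [3,0,6,3,4,6,11,14,16,4,16,1,3,0,4,6,3]),(1, 1, []),(1, 1, []),(1, 1, []),
  (1, 1, []),(1, 1, []),(1, 1, []),(1, 1, []),
  (2, 2, [3,0,6,4,1,7,4,13,5,7,16,2,3,0,16,3,4,1,6,4]),(1, 1, []),(1, 1, []),(1, 1, []),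
  (1, 1, []),(1, 1, []),(1, 1, []),(1, 1, []),
  (1, 1, []),(1, 1, []),(1, 1, []),(1, 1, []),
  (1, 1, []),(1, 1, []),(1, 1, []),(1, 1, []),
  (1, 1, []),(1, 1, []),(1, 1, []),(1, 1, []),
  (2, 2, [3,6,4,1,7,4,6,3,8,1,16,2,3,0,16,3,4,1,6,4]),(2, 2, [3,0,6,3,4,1,7,10,4,16,2,3,0,16,3,4,1,6,4]),(1, 1, []),(1, 1, []),
  (1, 1, []),(1, 1, []),(1, 1, []),(1, 1, []),
  (2, 2, [3,6,4,1,7,4,5,2,12,0,16,2,3,0,16,3,4,1,6,4]),(1, 1, []),(1, 1, []),(1, 1, []),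
  (1, 1, []),(1, 1, []),(1, 1, []),(1, 1, []),
  (1, 1, []),(1, 1, []),(1, 1, []),(1, 1, []),
  (1, 1, []),(1, 1, []),(1, 1, []),(1, 1, []),
  (1, 1, []),(1, 1, []),(1, 1, []),(1, 1, []),
  (1, 1, []),(1, 1, []),(1, 1, []),(1, 1, []),
  (1, 1, []),(1, 1, []),(1, 1, []),(1, 1, []),
  (1, 1, []),(2, 2, [3,0,6,3,4,9,14,6,16,4,16,1,3,0,4,6,3]),(1, 1, []),(1, 1, []),
  (1, 1, []),(1, 1, []),(1, 1, []),(1, 1, []),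
  (1, 1, []),(1, 1, []),(1, 1, []),(1, 1, []),
  (1, 1, []),(1, 1, []),(1, 1, []),(1, 1, []),
  (1, 1, []),(1, 1, []),(1, 1, []),(1, 1, []),
  (1, 1, []),(1, 1, []),(1, 1, []),(1, 1, []),
  (1, 1, []),(1, 1, []),(1, 1, []),(1, 1, []),
  (1, 1, []),(1, 1, []),(1, 1, []),(1, 1, []),
  (1, 1, []),(1, 1, []),(1, 1, []),(1, 1, []),
  (1, 1, []),(1, 1, []),(1, 1, []),(1, 1, []),
  (1, 1, []),(2, 2, [3,0,6,3,4,6,7,4,5,2,7,5,8,11,16,4,16,1,3,0,4,6,3]),(1, 1, []),(2, 2, [3,6,4,1,7,4,6,3,8,16,4,16,1,3,0,4,6,3]),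
  (1, 1, []),(1, 1, []),(1, 1, []),(1, 1, []),
  (1, 1, []),(1, 1, []),(1, 1, []),(1, 1, []),
  (1, 1, []),(1, 1, []),(1, 1, []),(1, 1, []),
  (1, 1, []),(1, 1, []),(1, 1, []),(2, 2, [3,0,6,3,4,1,14,16,4,16,1,3,0,4,6,3]),
  (1, 1, []),(1, 1, []),(1, 1, []),(1, 1, []),
  (1, 1, []),(1, 1, []),(1, 1, []),(1, 1, []),
  (1, 1, []),(1, 1, []),(1, 1, []),(1, 1, []),
  (1, 1, []),(1, 1, []),(1, 1, []),(1, 1, []),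
  (1, 1, []),(1, 1, []),(1, 1, []),(1, 1, []),
  (1, 1, []),(1, 1, []),(1, 1, []),(1, 1, []),
  (1, 1, []),(1, 1, []),(1, 1, []),(1, 1, []),
  (1, 1, []),(1, 1, []),(1, 1, []),(1, 1, []),
  (1, 1, []),(1, 1, []),(1, 1, []),(1, 1, []),
  (1, 1, []),(1, 1, []),(1, 1, []),(1, 1, []),
  (1, 1, []),(1, 1, []),(1, 1, []),(1, 1, []),
  (1, 1, []),(1, 1, []),(1, 1, []),(1, 1, []),
  (1, 1, []),(1, 1, []),(1, 1, []),(1, 1, []),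
  (1, 1, []),(1, 1, []),(1, 1, []),(1, 1, []),
  (1, 1, []),(1, 1, []),(1, 1, []),(1, 1, []),
  (1, 1, []),(1, 1, []),(1, 1, []),(1, 1, []),
  (1, 1, []),(1, 1, []),(1, 1, []),(2, 2, [3,6,4,1,7,4,5,2,9,6,16,2,3,0,16,3,4,1,6,4]),
  (2, 2, [3,0,6,4,1,8,7,4,5,6,16,2,3,0,16,3,9,16,4,6,7,4]),(1, 1, []),(1, 1, []),(1, 1, []),
  (2, 2, [3,6,4,1,7,4,6,9,3,11,16,3,0,4,1,7,4,6,3]),(2, 2, [3,0,6,3,4,1,7,4,8,2,16,3,0,4,1,7,4,6,3]),(2, 2, [3,0,6,3,4,6,7,10,4,11,16,3,0,4,1,7,4,6,3]),(1, 1, []),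
  (1, 1, []),(1, 1, []),(1, 1, []),(1, 1, []),
  (1, 1, []),(1, 1, []),(1, 1, []),(1, 1, []),
  (1, 1, []),(1, 1, []),(1, 1, []),(1, 1, []),
  (1, 1, []),(2, 2, [3,6,4,1,7,4,6,9,3,16,4,16,1,3,0,4,6,3]),(1, 1, []),(1, 1, []),
  (1, 1, []),(1, 1, []),(1, 1, []),(1, 1, []),
  (2, 2, [3,0,6,3,4,6,7,10,4,11,16,2,3,0,4,1,7,4,6,3]),(1, 1, []),(1, 1, []),(1, 1, []),
  (1, 1, []),(1, 1, []),(1, 1, []),(1, 1, []),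
  (1, 1, []),(2, 2, [3,0,6,3,4,12,1,16,4,16,1,3,0,4,6,3]),(1, 1, []),(1, 1, []),
  (1, 1, []),(1, 1, []),(1, 1, []),(1, 1, []),
  (2, 2, [3,0,6,3,4,6,7,4,5,2,12,6,7,5,16,4,16,1,3,0,4,6,3]),(1, 1, []),(1, 1, []),(1, 1, []),
  (1, 1, []),(1, 1, []),(1, 1, []),(1, 1, []),
  (1, 1, []),(1, 1, []),(1, 1, []),(1, 1, []),
  (1, 1, []),(2, 2, [3,0,6,3,4,1,7,4,8,2,16,2,3,0,4,1,7,4,6,3]),(1, 1, []),(1, 1, []),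
  (1, 1, []),(1, 1, []),(1, 1, []),(1, 1, []),
  (1, 1, []),(1, 1, []),(1, 1, []),(1, 1, []),
  (1, 1, []),(1, 1, []),(1, 1, []),(1, 1, []),
  (1, 1, []),(1, 1, []),(1, 1, []),(1, 1, []),
  (1, 1, []),(1, 1, []),(1, 1, []),(1, 1, []),
  (1, 1, []),(1, 1, []),(1, 1, []),(1, 1, []),
  (1, 1, []),(1, 1, []),(1, 1, []),(1, 1, []),
  (1, 1, []),(1, 1, []),(1, 1, []),(1, 1, []),
  (1, 1, []),(1, 1, []),(1, 1, []),(1, 1, []),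
  (1, 1, []),(1, 1, []),(1, 1, []),(1, 1, []),
  (1, 1, []),(1, 1, []),(1, 1, []),(1, 1, []),
  (1, 1, []),(1, 1, []),(1, 1, []),(1, 1, []),
  (1, 1, []),(1, 1, []),(1, 1, []),(1, 1, []),
  (1, 1, []),(1, 1, []),(1, 1, []),(1, 1, []),
  (1, 1, []),(1, 1, []),(1, 1, []),(1, 1, []),
  (1, 1, []),(1, 1, []),(1, 1, []),(1, 1, []),
  (1, 1, []),(1, 1, []),(1, 1, []),(1, 1, []),
  (1, 1, []),(1, 1, []),(1, 1, []),(1, 1, []),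
  (1, 1, []),(1, 1, []),(1, 1, []),(1, 1, []),
  (1, 1, []),(1, 1, []),(1, 1, []),(1, 1, []),
  (1, 1, []),(1, 1, []),(1, 1, []),(1, 1, []),
  (1, 1, []),(1, 1, []),(1, 1, []),(1, 1, []),
  (1, 1, []),(1, 1, []),(1, 1, []),(1, 1, []),
  (1, 1, []),(1, 1, []),(1, 1, []),(1, 1, []),
  (2, 2, [3,6,4,1,7,4,6,3,8,11,16,2,3,0,16,3,4,1,6,4]),(1, 1, []),(2, 2, [3,0,6,3,4,8,1,7,4,16,2,3,0,16,3,4,1,6,4]),(1, 1, []),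
  (1, 1, []),(1, 1, []),(1, 1, []),(1, 1, []),
  (1, 1, []),(1, 1, []),(1, 1, []),(1, 1, []),
  (1, 1, []),(1, 1, []),(1, 1, []),(2, 2, [3,0,6,4,1,7,4,5,2,9,16,2,3,0,16,3,4,1,6,4]),
  (1, 1, []),(1, 1, []),(1, 1, []),(2, 2, [3,0,6,4,1,7,4,5,6,8,16,2,3,0,16,3,16,4,6,7,4]),
  (1, 1, []),(1, 1, []),(1, 1, []),(1, 1, []),
  (1, 1, []),(1, 1, []),(1, 1, []),(1, 1, []),
  (1, 1, []),(2, 2, [3,6,4,1,7,4,6,9,3,16,3,0,4,1,7,4,6,3]),(1, 1, []),(1, 1, []),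
  (2, 2, [3,0,6,4,1,7,11,3,4,16,3,0,4,1,7,4,6,3]),(1, 1, []),(2, 2, [3,0,6,3,4,6,7,10,4,16,3,0,4,1,7,4,6,3]),(1, 1, []),
  (1, 1, []),(1, 1, []),(1, 1, []),(1, 1, []),
  (1, 1, []),(1, 1, []),(1, 1, []),(1, 1, []),
  (1, 1, []),(1, 1, []),(1, 1, []),(1, 1, []),
  (1, 1, []),(2, 2, [3,0,6,3,4,6,7,10,4,16,2,3,0,4,1,7,4,6,3]),(1, 1, []),(1, 1, []),
  (1, 1, []),(1, 1, []),(1, 1, []),(1, 1, []),
  (1, 1, []),(1, 1, []),(1, 1, []),(1, 1, []),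
  (1, 1, []),(1, 1, []),(1, 1, []),(1, 1, []),
  (2, 2, [3,0,6,4,1,7,11,3,4,16,2,3,0,4,1,7,4,6,3]),(1, 1, []),(1, 1, []),(1, 1, []),
  (1, 1, []),(1, 1, []),(1, 1, []),(1, 1, []),
  (1, 1, []),(1, 1, []),(1, 1, []),(1, 1, []),
  (1, 1, []),(1, 1, []),(1, 1, []),(1, 1, []),
  (1, 1, []),(1, 1, []),(1, 1, []),(1, 1, []),
  (1, 1, []),(1, 1, []),(1, 1, []),(1, 1, []),
  (1, 1, []),(1, 1, []),(1, 1, []),(1, 1, []),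
  (1, 1, []),(1, 1, []),(1, 1, []),(1, 1, []),
  (1, 1, []),(1, 1, []),(1, 1, []),(1, 1, []),
  (1, 1, []),(1, 1, []),(1, 1, []),(1, 1, []),
  (1, 1, []),(1, 1, []),(1, 1, []),(1, 1, []),
  (1, 1, []),(1, 1, []),(1, 1, []),(1, 1, []),
  (1, 1, []),(1, 1, []),(1, 1, []),(1, 1, []),
  (1, 1, []),(1, 1, []),(1, 1, []),(1, 1, []),
  (1, 1, []),(1, 1, []),(1, 1, []),(1, 1, []),
  (1, 1, []),(1, 1, []),(1, 1, []),(1, 1, []),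
  (1, 1, []),(1, 1, []),(1, 1, []),(1, 1, []),
  (2, 2, [3,0,6,4,1,7,4,5,6,8,16,2,3,0,16,3,16,2,4,6,7,4]),(1, 1, []),(1, 1, []),(1, 1, []),
  (2, 2, [3,6,4,1,7,4,6,9,3,16,2,3,0,4,1,7,4,6,3]),(1, 1, []),(1, 1, []),(1, 1, []),
  (1, 1, []),(1, 1, []),(1, 1, []),(1, 1, []),
  (1, 1, []),(1, 1, []),(1, 1, []),(1, 1, []),
  (1, 1, []),(1, 1, []),(1, 1, []),(1, 1, []),
  (1, 1, []),(1, 1, []),(1, 1, []),(1, 1, []),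
  (1, 1, []),(1, 1, []),(1, 1, []),(1, 1, []),
  (2, 2, [3,0,6,3,4,6,7,4,5,2,7,5,8,16,3,0,4,1,7,4,6,3]),(2, 2, [3,6,4,1,7,4,6,9,3,11,16,2,3,0,4,1,7,4,6,3]),(1, 1, []),(1, 1, [])]

end CfsgLib.CoTwoEnd
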