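import Cfsg.Agent.Lib.CoTwoEnd.List
import Cfsg.Agent.Lib.CoTwoEnd.DataP
import Cfsg.Agent.Lib.CoTwoEnd.DataQR0
import Cfsg.Agent.Lib.CoTwoEnd.DataQR1
import Cfsg.Agent.Lib.CoTwoEnd.DataQR2
import Cfsg.Agent.Lib.CoTwoEnd.DataQR3
import Cfsg.Agent.Lib.CoTwoEnd.DataQR4

/-!
# Checks for the three classes of involutions in the model of Co2
-/

set_option autoImplicit false
set_option maxRecDepth 100000

namespace CfsgLib.CoTwoEnd

open Cfsg CfsgLib.Rigid CfsgLib.CoTwoRec Subgroup

/-- The words of the three involutions. -/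
def clsW : List (List ℕ) := [tWord, tWord ++ xWord, tWord ++ yWord]

/-- The check of the elements of P. -/
noncomputable def pB : Bool :=
  decide (repW.length = 5) && repW.all (okW 8) && decide (pWit.length = 512) &&
    (pWit.zip (List.range 512)).all fun e =>
      (Nat.beq e.1.1 0 && eqL (kw (pW e.2)) (kw [])) ||
      (Nat.beq e.1.1 1 && ptNe (pW e.2 ++ pW e.2) [] e.1.2.1) ||
      (Nat.beq e.1.1 2 && okW 8 e.1.2.2 && Nat.blt e.1.2.1 5 &&
        conjB e.1.2.2 (pW e.2) (repW.getD e.1.2.1 []))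

theorem p_inv : pB = true := by decide +kernel

/-- The check of the products with a representative. -/
noncomputable def qrB (r : ℕ) (T : List (ℕ × ℕ × List ℕ)) : Bool :=
  decide (T.length = 512) && okW 17 (repW.getD r []) && (T.zip (List.range 512)).all fun e =>
    (Nat.beq e.1.1 0 && kEq (qW e.2 ++ repW.getD r []) []) ||
    (Nat.beq e.1.1 1 && ptNe ((qW e.2 ++ repW.getD r []) ++ (qW e.2 ++ repW.getD r [])) [] e.1.2.1) ||
    (Nat.beq e.1.1 2 && Nat.blt e.1.2.1 3 &&
      conjB e.1.2.2 (qW e.2 ++ repW.getD r []) (clsW.getD e.1.2.1 []))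

theorem qr0_ok : qrB 0 qr0 = true := by decide +kernel

theorem qr1_ok : qrB 1 qr1 = true := by decide +kernel

theorem qr2_ok : qrB 2 qr2 = true := by decide +kernel

theorem qr3_ok : qrB 3 qr3 = true := by decide +kernel

theorem qr4_ok : qrB 4 qr4 = true := by decide +kernel

end CfsgLib.CoTwoEnd
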