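import Mathlib

/-!
# Tables for the endgame of Co2
-/

set_option autoImplicit false
set_option maxRecDepth 20000

namespace CfsgLib.CoTwoEnd

/-- The range for the central involution. -/
def tUp : List ℕ × List ℕ := ([7461389,2166943,1342352,1207024,695289,4061467,2296041], [1,2,4,8,16,32,64,72,30,117,84,59,77,59,84,20,104,0,51,56,25,114,77])

/-- A lower bound for the product with the neighbour. -/
def bLow : List ℕ × List ℕ := ([1,2,4,8,16,32,64,128], [0,0,0,0,0,0,0,0,0,0,0,0,0,0,35,62,0,8,38,182,75,201,19])

/-- A lower bound for the product with the involution over a transvection. -/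
def cLow : List ℕ × List ℕ := ([1,2,4,8,16,32,128,256], [0,0,0,0,0,0,0,0,0,0,0,210,0,221,156,0,0,0,10,148,106,217,206])

/-- From the neighbour to the central involution. -/
def nbrK : List ℕ := [16]

/-- From the other neighbour to the central involution. -/
def secK : List ℕ := [16,2,4,1,16,4,16]

/-- The involution of Q. -/
def betaW : List ℕ := [15]

/-- Its class. -/
def betaK : List ℕ := [2,16,8]

/-- A commuting conjugate. -/
def wWord : List ℕ := [0]

/-- Its class. -/
def wK : List ℕ := [16,2,4,1,16,4,16]

/-- The range for the first product. -/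
def tbUp : List ℕ × List ℕ := ([8132447,2932977,1935747,5432499,8357331,4862582,8351534,4261049], [1,2,4,8,16,32,39,64,128,161,19,116,219,89,25,207,71,190,226,161,124,195,45])

/-- A lower bound for the first product. -/
def tbLow : List ℕ × List ℕ := ([1,2,4,8,16,32,128,256], [0,0,0,0,0,0,0,0,0,0,0,0,0,0,0,80,74,11,102,225,153,213,202])

/-- A lower bound for the second product. -/
def wbLow : List ℕ × List ℕ := ([1,2,4,8,16,32,128,256,512], [0,0,0,0,0,0,0,0,0,0,0,0,0,114,1,0,34,58,458,215,266,32,447])

/-- The commuting conjugates. -/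
def uWords : List (List ℕ) := [[8,0,8],[14,0,14],[14,8,0,8,14]]

/-- Their classes. -/
def uK : List (List ℕ) := [[16,2,4,1,16,4,16,8],[16,2,4,1,16,4,16,14],[16,4,16,1,4,16,7]]

/-- The test vectors. -/
def swPts : List ℕ := [200,286,629,1108,7461389,2166943,1342352,1207024]

/-- The number of those outside the range. -/
def swN : ℕ := 4

/-- Their origins. -/
def swPre : List ℕ := [1,2,4,8]

/-- A projection. -/
def swPsi : List ℕ := [0,0,0,0,0,0,0,0,0,0,0,0,0,15,2,2,15,6,10,7,3,13,0]

end CfsgLib.CoTwoEnd
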