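import Mathlib

/-!
# Tables for the endgame of Co2
-/

set_option autoImplicit false
set_option maxRecDepth 20000

namespace CfsgLib.CoTwoEnd

/-- The products with the neighbour. -/
def nbrQ : List (ℕ × ℕ × List ℕ) := [(0, 0, []),(3, 1, []),(5, 2, [10,2,16,4,16,1,16,4]),(5, 2, [3,0,6,3,4,1,10,6,4,16,3,0,9,16,3]),
  (5, 0, [16,8]),(3, 1, []),(5, 2, [8,1,7,16,2,4,1,7,4]),(5, 2, [3,0,6,3,4,1,10,2,6,4,16,2,3,0,16,9,3]),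
  (5, 0, [16,2]),(3, 1, []),(3, 1, []),(3, 1, []),
  (3, 1, []),(3, 1, []),(3, 1, []),(2, 1, []),
  (5, 2, [3,0,6,3,4,1,6,4,9,16,3,16,0,3,4,1,6,4]),(5, 2, [14,16,4,16,1,16,4]),(3, 1, []),(5, 2, [8,1,14,16,4,1,16,4,8]),
  (2, 1, []),(5, 2, [12,1,16,2,4,1,16,4]),(5, 2, [3,0,6,3,4,1,6,4,9,16,3,0,9,16,3]),(3, 1, []),
  (2, 1, []),(5, 2, [3,0,6,3,4,1,10,6,4,13,16,2,3,16,0,3,0]),(5, 2, [3,0,6,3,4,1,6,4,9,16,3,16,0,3,12]),(2, 1, []),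
  (5, 2, [8,2,16,4,1,7,4,8]),(5, 2, [3,0,6,3,4,1,10,2,6,4,16,2,3,0,16,3]),(5, 0, [16,2,5]),(2, 1, []),
  (3, 1, []),(3, 1, []),(3, 1, []),(2, 1, []),
  (5, 2, [8,2,16,3,0,4,1,7,4,6,3]),(5, 2, [8,2,16,2,4,1,7,4]),(2, 1, []),(5, 2, [3,0,6,3,4,1,6,4,8,16,2,3,0,16,9,3]),
  (2, 1, []),(3, 1, []),(3, 1, []),(3, 1, []),
  (3, 1, []),(2, 1, []),(2, 1, []),(3, 1, []),
  (3, 1, []),(2, 1, []),(3, 1, []),(2, 1, []),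
  (2, 1, []),(3, 1, []),(3, 1, []),(2, 1, []),
  (2, 1, []),(3, 1, []),(3, 1, []),(2, 1, []),
  (2, 1, []),(3, 1, []),(2, 1, []),(2, 1, []),
  (2, 1, []),(4, 0, [16,2]),(5, 2, [8,2,16,3,0,4,1,7,4,5,6,3,7]),(3, 1, []),
  (2, 1, []),(2, 1, []),(5, 2, [12,1,16,2,4,1,16,3,0,4,6,3]),(2, 1, []),
  (5, 2, [8,1,14,16,4,1,16,4,10]),(2, 1, []),(5, 2, [12,1,16,2,4,1,16,4,1]),(2, 1, []),
  (3, 1, []),(2, 1, []),(3, 1, []),(2, 1, []),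
  (2, 1, []),(5, 2, [10,12,16,4,1,16,4]),(5, 2, [3,0,6,3,4,1,10,2,6,4,16,2,3,0,16,3,8]),(2, 1, []),
  (2, 1, []),(2, 1, []),(2, 1, []),(5, 2, [3,0,6,3,4,1,6,4,16,2,3,16,0,3,8]),
  (5, 2, [3,0,6,3,4,1,10,6,4,16,3,16,0,13,3]),(2, 1, []),(2, 1, []),(3, 1, []),
  (3, 1, []),(5, 2, [8,2,16,4,1,7,4]),(2, 1, []),(2, 1, []),
  (2, 1, []),(5, 2, [3,0,6,3,4,1,6,4,9,16,3,16,0,2,3]),(2, 1, []),(3, 1, []),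
  (2, 1, []),(2, 1, []),(2, 1, []),(2, 1, []),
  (5, 2, [8,14,16,4,16,1,3,0,4,6,3]),(5, 2, [8,1,7,16,4,16,1,4]),(2, 1, []),(5, 2, [3,0,6,3,4,1,6,4,8,16,2,3,0,16,3,9]),
  (2, 1, []),(4, 0, [16,8]),(2, 1, []),(2, 1, []),
  (2, 1, []),(2, 1, []),(3, 1, []),(3, 1, []),
  (2, 1, []),(3, 1, []),(2, 1, []),(5, 2, [3,0,6,3,4,1,6,4,9,16,3,16,0,3]),
  (2, 1, []),(2, 1, []),(2, 1, []),(5, 2, [8,1,7,16,3,0,4,1,7,4,6,3]),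
  (2, 1, []),(5, 2, [10,12,16,4,1,16,2,4]),(2, 1, []),(2, 1, []),
  (3, 1, []),(3, 1, []),(3, 1, []),(2, 1, []),
  (2, 1, []),(2, 1, []),(2, 1, []),(3, 1, []),
  (2, 1, []),(2, 1, []),(2, 1, []),(3, 1, []),
  (2, 1, []),(2, 1, []),(2, 1, []),(2, 1, []),
  (2, 1, []),(3, 1, []),(3, 1, []),(5, 2, [8,1,14,16,4,1,16,4,7]),
  (2, 1, []),(2, 1, []),(3, 1, []),(2, 1, []),
  (2, 1, []),(2, 1, []),(3, 1, []),(2, 1, []),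
  (3, 1, []),(2, 1, []),(3, 1, []),(2, 1, []),
  (2, 1, []),(5, 2, [3,0,6,3,4,1,6,4,9,16,3,16,0,13,3]),(3, 1, []),(2, 1, []),
  (2, 1, []),(3, 1, []),(2, 1, []),(3, 1, []),
  (2, 1, []),(2, 1, []),(2, 1, []),(4, 0, [16,2,5]),
  (3, 1, []),(2, 1, []),(2, 1, []),(3, 1, []),
  (2, 1, []),(3, 1, []),(2, 1, []),(2, 1, []),
  (2, 1, []),(3, 1, []),(3, 1, []),(2, 1, []),
  (3, 1, []),(2, 1, []),(2, 1, []),(5, 2, [8,1,7,16,4,1,7,4]),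
  (3, 1, []),(3, 1, []),(5, 2, [3,0,6,3,4,1,6,4,8,16,2,3,0,16,3,8]),(1, 0, []),
  (2, 1, []),(2, 1, []),(2, 1, []),(5, 2, [3,0,6,3,9,2,16,3,4,1,16,10,0,16,3,4]),
  (2, 1, []),(2, 1, []),(2, 1, []),(3, 1, []),
  (5, 2, [8,2,16,4,1,7,4,5]),(5, 2, [8,2,16,3,0,4,1,7,4,5,6,3]),(2, 1, []),(5, 2, [3,0,6,3,4,1,6,4,16,2,3,16,0,3]),
  (2, 1, []),(2, 1, []),(3, 1, []),(2, 1, []),
  (3, 1, []),(2, 1, []),(2, 1, []),(2, 1, []),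
  (5, 2, [10,12,16,4,1,16,4,8]),(5, 2, [3,0,6,3,4,1,10,2,6,4,16,2,3,0,16,3,9]),(2, 1, []),(2, 1, []),
  (5, 2, [8,1,14,16,4,1,16,2,4]),(2, 1, []),(3, 1, []),(2, 1, []),
  (2, 1, []),(2, 1, []),(3, 1, []),(3, 1, []),
  (2, 1, []),(2, 1, []),(5, 2, [14,16,3,0,4,16,1,16,4,6,3]),(5, 2, [10,2,16,3,0,4,16,1,16,4,6,3,7]),
  (2, 1, []),(5, 2, [8,1,7,16,2,3,0,4,1,7,4,6,3]),(2, 1, []),(2, 1, []),
  (3, 1, []),(3, 1, []),(2, 1, []),(2, 1, []),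
  (5, 2, [8,14,16,4,16,1,4]),(2, 1, []),(2, 1, []),(2, 1, []),
  (5, 2, [3,0,6,3,4,1,6,4,16,2,3,16,0,3,0]),(2, 1, []),(5, 2, [3,0,6,3,4,1,10,6,4,16,3,16,0,3]),(3, 1, []),
  (2, 1, []),(2, 1, []),(3, 1, []),(2, 1, []),
  (2, 1, []),(2, 1, []),(3, 1, []),(2, 1, []),
  (2, 1, []),(2, 1, []),(2, 1, []),(2, 1, []),
  (2, 1, []),(2, 1, []),(2, 1, []),(2, 1, []),
  (2, 1, []),(5, 2, [8,1,7,16,3,4,1,7,4,16,10,16,3]),(2, 1, []),(2, 1, []),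
  (2, 1, []),(2, 1, []),(2, 1, []),(2, 1, []),
  (2, 1, []),(2, 1, []),(2, 1, []),(3, 1, []),
  (2, 1, []),(2, 1, []),(2, 1, []),(2, 1, []),
  (2, 1, []),(2, 1, []),(2, 1, []),(2, 1, []),
  (2, 1, []),(2, 1, []),(2, 1, []),(2, 1, []),
  (2, 1, []),(2, 1, []),(3, 1, []),(3, 1, []),
  (3, 1, []),(3, 1, []),(3, 1, []),(5, 2, [3,0,6,3,13,16,3,4,1,16,10,0,16,3,4]),
  (3, 1, []),(2, 1, []),(3, 1, []),(3, 1, []),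
  (2, 1, []),(2, 1, []),(2, 1, []),(3, 1, []),
  (3, 1, []),(5, 2, [8,1,16,2,4,1,16,4]),(3, 1, []),(2, 1, []),
  (3, 1, []),(3, 1, []),(2, 1, []),(2, 1, []),
  (2, 1, []),(3, 1, []),(3, 1, []),(3, 1, []),
  (3, 1, []),(3, 1, []),(3, 1, []),(3, 1, []),
  (3, 1, []),(5, 2, [10,12,16,4,1,16,4,10]),(3, 1, []),(3, 1, []),
  (2, 1, []),(3, 1, []),(3, 1, []),(2, 1, []),
  (3, 1, []),(2, 1, []),(2, 1, []),(5, 2, [3,0,6,3,4,1,10,6,4,16,3,16,0,3,12]),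
  (3, 1, []),(3, 1, []),(2, 1, []),(3, 1, []),
  (3, 1, []),(2, 1, []),(3, 1, []),(2, 1, []),
  (2, 1, []),(3, 1, []),(3, 1, []),(3, 1, []),
  (5, 2, [3,0,6,3,4,1,10,6,4,13,16,2,3,16,0,3,8]),(2, 1, []),(3, 1, []),(3, 1, []),
  (2, 1, []),(3, 1, []),(2, 1, []),(2, 1, []),
  (5, 2, [8,1,7,16,4,1,7,4,8]),(3, 1, []),(5, 2, [3,0,6,3,4,1,6,4,8,16,2,3,0,16,3]),(2, 1, []),
  (3, 1, []),(3, 1, []),(2, 1, []),(3, 1, []),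
  (2, 1, []),(2, 1, []),(3, 1, []),(3, 1, []),
  (3, 1, []),(3, 1, []),(3, 1, []),(5, 2, [8,2,16,2,3,0,4,1,7,4,6,3]),
  (3, 1, []),(3, 1, []),(3, 1, []),(2, 1, []),
  (5, 2, [8,1,14,16,4,1,16,4]),(5, 2, [8,1,14,16,4,1,16,3,0,4,6,3]),(2, 1, []),(5, 2, [3,0,6,3,4,1,10,6,4,16,3,16,0,2,3]),
  (2, 1, []),(2, 1, []),(5, 2, [10,2,16,3,0,4,16,1,16,4,6,3]),(3, 1, []),
  (3, 1, []),(2, 1, []),(3, 1, []),(3, 1, []),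
  (2, 1, []),(3, 1, []),(2, 1, []),(2, 1, []),
  (5, 2, [3,0,6,3,4,1,6,4,9,16,3,16,0,2,3,4,1,6,4]),(3, 1, []),(2, 1, []),(3, 1, []),
  (5, 2, [12,1,16,2,4,1,16,3,0,4,6,3,7]),(2, 1, []),(5, 2, [8,1,14,16,4,1,7,4,16,3,0,6,3]),(2, 1, []),
  (2, 1, []),(3, 1, []),(2, 1, []),(3, 1, []),
  (3, 1, []),(2, 1, []),(3, 1, []),(2, 1, []),
  (2, 1, []),(5, 2, [10,12,16,4,1,16,3,0,4,6,3]),(3, 1, []),(3, 1, []),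
  (2, 1, []),(2, 1, []),(2, 1, []),(2, 1, []),
  (3, 1, []),(3, 1, []),(2, 1, []),(2, 1, []),
  (2, 1, []),(2, 1, []),(2, 1, []),(2, 1, []),
  (2, 1, []),(2, 1, []),(2, 1, []),(2, 1, []),
  (2, 1, []),(2, 1, []),(3, 1, []),(3, 1, []),
  (3, 1, []),(3, 1, []),(3, 1, []),(3, 1, []),
  (3, 1, []),(3, 1, []),(3, 1, []),(5, 2, [8,1,16,2,4,1,16,3,0,4,6,3]),
  (3, 1, []),(3, 1, []),(3, 1, []),(3, 1, []),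
  (3, 1, []),(3, 1, []),(3, 1, []),(3, 1, []),
  (3, 1, []),(3, 1, []),(2, 1, []),(3, 1, []),
  (3, 1, []),(2, 1, []),(3, 1, []),(3, 1, []),
  (3, 1, []),(3, 1, []),(5, 2, [8,1,7,16,4,1,7,4,5]),(3, 1, []),
  (3, 1, []),(2, 1, []),(3, 1, []),(3, 1, []),
  (3, 1, []),(3, 1, []),(3, 1, []),(2, 1, []),
  (3, 1, []),(2, 1, []),(3, 1, []),(3, 1, []),
  (3, 1, []),(5, 2, [3,0,6,3,4,1,10,6,4,13,16,2,3,16,0,3]),(3, 1, []),(2, 1, []),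
  (3, 1, []),(3, 1, []),(3, 1, []),(3, 1, []),
  (3, 1, []),(3, 1, []),(3, 1, []),(5, 2, [8,1,7,16,4,16,1,3,0,4,6,3]),
  (3, 1, []),(3, 1, []),(3, 1, []),(3, 1, []),
  (2, 1, []),(3, 1, []),(3, 1, []),(5, 2, [14,16,3,0,4,16,1,16,4,6,3,7]),
  (2, 1, []),(3, 1, []),(3, 1, []),(3, 1, []),
  (3, 1, []),(5, 2, [3,0,6,3,4,1,6,4,9,16,3,16,0,3,4,1,6,4,7]),(3, 1, []),(3, 1, []),
  (3, 1, []),(3, 1, []),(2, 1, []),(2, 1, []),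
  (2, 1, []),(2, 1, []),(2, 1, []),(2, 1, []),
  (2, 1, []),(2, 1, []),(2, 1, []),(2, 1, []),
  (2, 1, []),(2, 1, []),(2, 1, []),(2, 1, []),
  (2, 1, []),(2, 1, []),(3, 1, []),(3, 1, [])]

end CfsgLib.CoTwoEnd
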