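import Cfsg.Agent.Lib.CoTwoEnd.List
import Cfsg.Agent.Lib.CoTwoEnd.DataIso

/-!
# Checks: the conjugates of the involution over a transvection in the centraliser
-/

set_option autoImplicit false
set_option maxRecDepth 100000

namespace CfsgLib.CoTwoEnd

open Cfsg CfsgLib.Rigid CfsgLib.CoTwoRec

/-- Carrying the involution to the `i`th conjugate under H. -/
def tauK (i : ℕ) : List ℕ := tauW.getD i []

/-- Carrying the involution to the `j`th conjugate under Q. -/
def omK (j : ℕ) : List ℕ := omW.getD j []

/-- The conjugate of the involution by a word. -/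
def cy (k : List ℕ) : List ℕ := k ++ yWord ++ k.reverse

/-- The codes of the conjugates under H. -/
noncomputable def tauB : Bool :=
  decide (tauW.length = 63) && decide (tauC.length = 63) && eqL (kw (tauK 0)) (kw []) &&
  (List.range 63).all fun i => okW 8 (tauK i) && okW 17 (cy (tauK i)) && eqL (cEv (cy (tauK i))) (tauC.getD i [])

/-- The action of H on them. -/
noncomputable def tauActB : Bool :=
  (List.range 63).all fun i => (List.range 8).all fun l =>
    Nat.blt ((tauTab.getD i []).getD l 63) 63 &&
      eqL (bpts.map fun p => img (codes.getD l []) (img (tauC.getD i []) (img (codes.getD l []) p)))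
        (bpts.map fun p => img (tauC.getD ((tauTab.getD i []).getD l 63) []) p)

/-- The codes of the conjugates under Q. -/
noncomputable def omB : Bool :=
  decide (omW.length = 16) && eqL (kw (omK 0)) (kw []) &&
  (List.range 16).all fun j => okW 16 (omK j) && (omK j).all (fun l => Nat.ble 8 l) && okW 17 (cy (omK j)) &&
    eqL (cEv (cy (omK j))) (omC.getD j [])

/-- The action of Q on them. -/
noncomputable def omActB : Bool :=
  (List.range 16).all fun j => (List.range 8).all fun l =>
    Nat.blt ((omTab.getD j []).getD l 16) 16 &&
      eqL (bpts.map fun p => img (codes.getD (8 + l) []) (img (omC.getD j []) (img (codes.getD (8 + l) []) p)))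
        (bpts.map fun p => img (omC.getD ((omTab.getD j []).getD l 16) []) p)

/-- The two seeds. -/
def seedW (s : Bool) : List ℕ := if s then yWord else xWord

/-- The pulled back seed. -/
def eW (s : Bool) (i : ℕ) : List ℕ := (tauK i).reverse ++ seedW s ++ tauK i

/-- The codes of the pulled back seeds. -/
noncomputable def eB (s : Bool) (C : List (List ℕ)) : Bool :=
  (List.range 63).all fun i => okW 17 (eW s i) && eqL (cEv (eW s i)) (C.getD i [])

/-- The check of the pairs. -/
noncomputable def isoB (C : List (List ℕ)) (tc : List ℕ) (T : List (ℕ × ℕ × List ℕ × List ℕ)) : Bool :=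
  decide (T.length = 1008) && (T.zip (List.range 1008)).all fun e =>
    (Nat.beq e.1.1 0 && eqL (omC.getD (e.2 % 16) []) (C.getD (e.2 / 16) [])) ||
    (Nat.beq e.1.1 1 && !(Nat.beq (img (C.getD (e.2 / 16) []) (img (omC.getD (e.2 % 16) []) e.1.2.1))
      (img (omC.getD (e.2 % 16) []) (img (C.getD (e.2 / 16) []) e.1.2.1)))) ||
    (Nat.beq e.1.1 2 && lowB (fun p => img tc (img (omC.getD (e.2 % 16) []) (img (C.getD (e.2 / 16) []) p)) ^^^
      img oneC p) 8 (e.1.2.2.1, e.1.2.2.2))

theorem tau_ok : tauB = true := by decide +kernel

theorem tauAct_ok : tauActB = true := by decide +kernel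

theorem om_ok : omB = true := by decide +kernel

theorem omAct_ok : omActB = true := by decide +kernel

theorem e0_ok : eB false eC0 = true := by decide +kernel

theorem e1_ok : eB true eC1 = true := by decide +kernel

theorem iso0_ok : isoB eC0 (cEv tWord) iso0 = true := by decide +kernel

theorem iso1_ok : isoB eC1 (cEv tWord) iso1 = true := by decide +kernel

end CfsgLib.CoTwoEnd
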