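import Cfsg.Agent.Lib.CoTwoRec.Basic

/-!
# Elements of the model by their values on six base points, and ranges of displacements
-/

set_option autoImplicit false
set_option maxRecDepth 100000

namespace CfsgLib.CoTwoEnd

open Cfsg CfsgLib.Rigid CfsgLib.CoTwoRec

instance : Finite CoG := by
  haveI := finite_co0
  infer_instance

/-- The base points. -/
noncomputable def bpts : List ℕ := Co2.data.levels.map Level.b

/-- The values on the base points. -/
noncomputable def key (g : CoG) : List ℕ := bpts.map (img (code g))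

theorem key_inj : Function.Injective key := by
  intro g h e
  have := finite_co0
  obtain ⟨U, hU⟩ := Co2.exists_gen Co2.autU_ok fun k => (Co2.ent_row k).1
  obtain ⟨V, hV⟩ := Co2.exists_gen Co2.autV_ok fun k => (Co2.ent_row k).2.1
  obtain ⟨W, hW⟩ := Co2.exists_gen Co2.autW_ok fun k => (Co2.ent_row k).2.2
  obtain ⟨cu, cv, cw, -⟩ := Co2.code_ok
  simp only [eqL_iff] at cu cv cw
  set K : Subgroup CoG := Subgroup.closure {x | x ∈ [U, V, W]}
  have hbase : ∀ M ∈ [Co2.data.u, Co2.data.v, Co2.data.w], cod.Mem K M := by
    intro M hM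
    simp only [List.mem_cons, List.not_mem_nil, or_false] at hM
    rcases hM with rfl | rfl | rfl
    · exact ⟨U, Subgroup.subset_closure (by simp), hU.trans cu⟩
    · exact ⟨V, Subgroup.subset_closure (by simp), hV.trans cv⟩
    · exact ⟨W, Subgroup.subset_closure (by simp), hW.trans cw⟩
  have hknown := cod.slp_sound code_one Co2.data.ops _ hbase Co2.ops_ok
  have hlev : cod.Levels Co2.data.one Co2.data.known [] Co2.data.levels := by
    refine levels_of_checks Co2.basis Co2.grp Co2.grp_fix _ _ _ Co2.baseCoef [] Co2.base_ok ?_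
    intro i hi
    have hi' : i < 6 := hi
    interval_cases i
    exacts [Co2.level0_ok, Co2.level1_ok, Co2.level2_ok, Co2.level3_ok, Co2.level4_ok, Co2.level5_ok]
  have hchain := cod.chain_of_levels code_one hknown _ [] hlev
  have hfull := (cod.full_of_card hchain (by rw [Co2.prod_ok, Co2.card_grp])).1
  refine inv_mul_eq_one.1 (cod.eq_one_of_full _ [] hfull (g⁻¹ * h) (by rw [Cod.stab_nil]; trivial) ?_)
  intro L hL
  have hb : L.1 ∈ bpts := by
    obtain ⟨M, hM, rfl⟩ := List.mem_map.1 hL
    exact List.mem_map.2 ⟨M, hM, rfl⟩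
  have e' : img (code g) L.1 = img (code h) L.1 := List.map_inj_left.1 e _ hb
  rw [cod.img_mul]
  show img (code g⁻¹) (img (code h) L.1) = L.1
  rw [← e']
  exact cod.img_inv_img g (cod.pt_of_chain _ [] hchain L hL)

/-- The identity code. -/
noncomputable def oneC : List ℕ := Co2.data.one

theorem code_one' : code 1 = oneC := code_one

theorem img_code_mul (g h : CoG) (p : ℕ) : img (code (g * h)) p = img (code g) (img (code h) p) :=
  cod.img_mul g h p

theorem img_one_code (g : CoG) (p : ℕ) : img oneC (img (code g) p) = img (code g) p := by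
  rw [← code_one', ← img_code_mul, one_mul]

theorem img_code_one (g : CoG) (p : ℕ) : img (code g) (img oneC p) = img (code g) p := by
  rw [← code_one', ← img_code_mul, mul_one]

/-- The value of a word at a point. -/
noncomputable def kpt (w : List ℕ) (p : ℕ) : ℕ :=
  w.foldr (fun l a => img (codes.getD l []) a) (img oneC p)

/-- Letters only. -/
noncomputable def okW (n : ℕ) (w : List ℕ) : Bool := w.all fun l => Nat.blt l n

theorem okW_iff {n : ℕ} {w : List ℕ} : okW n w = true ↔ ∀ l ∈ w, l < n := by
  simp [okW, List.all_eq_true]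

theorem img_ev : ∀ {w : List ℕ}, (∀ l ∈ w, l < 17) → ∀ p, img (code (ev letter w)) p = kpt w p
  | [], _, p => by rw [show ev letter [] = 1 from rfl, code_one']; rfl
  | l :: w, h, p => by
    rw [show ev letter (l :: w) = letter l * ev letter w by simp [ev], img_code_mul,
      code_letter (h l List.mem_cons_self), img_ev fun k hk => h k (List.mem_cons_of_mem _ hk)]
    rfl

/-- The value of a word on the base points. -/
noncomputable def kw (w : List ℕ) : List ℕ := bpts.map (kpt w)

theorem key_ev {w : List ℕ} (h : ∀ l ∈ w, l < 17) : key (ev letter w) = kw w :=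
  List.map_congr_left fun p _ => img_ev h p

theorem ev_append {M : Type*} [Monoid M] (f : ℕ → M) (u w : List ℕ) : ev f (u ++ w) = ev f u * ev f w := by
  simp [ev]

theorem ev_rev : ∀ {w : List ℕ}, (∀ l ∈ w, l < 17) → ev letter w.reverse = (ev letter w)⁻¹
  | [], _ => by simp [ev]
  | l :: w, h => by
    rw [List.reverse_cons, ev_append, ev_rev fun k hk => h k (List.mem_cons_of_mem _ hk),
      show ev letter (l :: w) = letter l * ev letter w by simp [ev],
      show ev letter [l] = letter l by simp [ev], mul_inv_rev,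
      inv_eq_of_mul_eq_one_right (letter_mul_self (h l List.mem_cons_self))]

/-- Two words with the same values. -/
noncomputable def kEq (u w : List ℕ) : Bool := okW 17 u && okW 17 w && eqL (kw u) (kw w)

theorem ev_eq_of_kEq {u w : List ℕ} (h : kEq u w = true) : ev letter u = ev letter w := by
  simp only [kEq, Bool.and_eq_true, okW_iff, eqL_iff] at h
  exact key_inj (by rw [key_ev h.1.1, key_ev h.1.2, h.2])

/-- The witness of conjugacy: `k` carries `z` to `x`. -/
noncomputable def conjB (k z x : List ℕ) : Bool := kEq (k ++ z ++ k.reverse) x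

theorem conj_of_conjB {k z x : List ℕ} (h : conjB k z x = true) :
    ev letter k * ev letter z * (ev letter k)⁻¹ = ev letter x := by
  rw [← ev_eq_of_kEq h, ev_append, ev_append, ev_rev]
  simp only [conjB, kEq, Bool.and_eq_true, okW_iff] at h
  exact fun l hl => h.1.1 l (by simp [hl])

/-- A point separating two words. -/
noncomputable def ptNe (u w : List ℕ) (p : ℕ) : Bool :=
  okW 17 u && okW 17 w && !(Nat.beq (kpt u p) (kpt w p))

theorem ev_ne_of_ptNe {u w : List ℕ} {p : ℕ} (h : ptNe u w p = true) : ev letter u ≠ ev letter w := by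
  intro e
  simp only [ptNe, Bool.and_eq_true, okW_iff, Bool.not_eq_true'] at h
  rw [← img_ev h.1.1, ← img_ev h.1.2, e] at h
  have := h.2
  simp at this

/-! ## The range of the displacement -/

/-- The displacement. -/
noncomputable def disp (C : List ℕ) (p : ℕ) : ℕ := img C p ^^^ img oneC p

/-- The range of the displacement has at most `2 ^ r` members. -/
def Small (r : ℕ) (x : CoG) : Prop := ∃ S : Finset ℕ, S.card ≤ 2 ^ r ∧ ∀ p, disp (code x) p ∈ S

theorem small_conj {r : ℕ} {z : CoG} (h : Small r z) (k : CoG) : Small r (k * z * k⁻¹) := by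
  obtain ⟨S, hS, hmem⟩ := h
  refine ⟨S.image (img (code k)), Finset.card_image_le.trans hS, fun p => ?_⟩
  refine Finset.mem_image.2 ⟨_, hmem (img (code k⁻¹) p), ?_⟩
  rw [disp, disp, img_xor, ← img_code_mul, ← img_code_mul, img_one_code, ← img_code_mul,
    mul_inv_cancel, code_one']

theorem img_map (L : ℕ → ℕ) (hL : ∀ p q, L (p ^^^ q) = L p ^^^ L q) :
    ∀ (ps : List ℕ) (x : ℕ), img (ps.map L) x = L (img ps x) := by
  have h0 : L 0 = 0 := by simpa using hL 0 0
  intro ps
  induction ps with
  | nil => intro x; simp [img_nil, h0]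
  | cons a ps ih =>
    intro x
    rw [List.map_cons, img_cons, img_cons, ih, hL]
    rcases Nat.mod_two_eq_zero_or_one x with hx | hx <;> simp [hx, h0]

theorem disp_xor (C : List ℕ) (p q : ℕ) : disp C (p ^^^ q) = disp C p ^^^ disp C q := by
  simp only [disp, img_xor]
  ac_rfl

theorem img_lt {r : ℕ} : ∀ {A : List ℕ}, (∀ a ∈ A, a < 2 ^ r) → ∀ p, img A p < 2 ^ r
  | [], _, p => by rw [img_nil]; exact Nat.two_pow_pos r
  | a :: A, h, p => by
    rw [img_cons]
    refine Nat.xor_lt_two_pow ?_ (img_lt (fun b hb => h b (List.mem_cons_of_mem _ hb)) _)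
    rcases Nat.mod_two_eq_zero_or_one p with hp | hp <;> rw [hp]
    · simp
    · simpa using h a List.mem_cons_self

/-- An upper bound for the range. -/
noncomputable def upB (C : List ℕ) (r : ℕ) (c : List ℕ × List ℕ) : Bool :=
  decide (C.length = 23) && decide (oneC.length = 23) && (c.2.all fun a => Nat.blt a (2 ^ r)) &&
    eqL (mulF c.1 c.2) (List.zipWith (fun a b => a ^^^ b) C oneC)

theorem img_zip : ∀ (A B : List ℕ) (p : ℕ), A.length = B.length →
    img (List.zipWith (fun a b => a ^^^ b) A B) p = img A p ^^^ img B p := by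
  intro A
  induction A with
  | nil => intro B p h; obtain rfl := List.length_eq_zero_iff.1 h.symm; simp [img_nil]
  | cons a A ih =>
    intro B p h
    match B, h with
    | b :: B, h =>
      rw [List.zipWith_cons_cons, img_cons, img_cons, img_cons, ih B _ (by simpa using h)]
      rcases Nat.mod_two_eq_zero_or_one p with hp | hp <;> rw [hp] <;>
        simp only [Nat.zero_mul, Nat.one_mul, Nat.zero_xor] <;> ac_rfl

theorem small_of_upB {x : CoG} {r : ℕ} {c : List ℕ × List ℕ} (h : upB (code x) r c = true) : Small r x := by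
  simp only [upB, Bool.and_eq_true, decide_eq_true_eq, List.all_eq_true, Nat.blt_eq, eqL_iff] at h
  refine ⟨(Finset.range (2 ^ r)).image (img c.1), Finset.card_image_le.trans (Finset.card_range _).le,
    fun p => Finset.mem_image.2 ⟨img c.2 p, Finset.mem_range.2 (img_lt h.1.2 p), ?_⟩⟩
  rw [← img_mulF, h.2, img_zip _ _ _ (h.1.1.1.trans h.1.1.2.symm)]
  rfl

/-- The unit vectors. -/
noncomputable def unitC (r : ℕ) : List ℕ := (List.range r).map (2 ^ ·)

theorem unit_ok : ([8, 9].all fun r => (List.range (2 ^ r)).all fun x => Nat.beq (img (unitC r) x) x) = true := by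
  decide +kernel

/-- A lower bound for the range of a map. -/
noncomputable def lowB (f : ℕ → ℕ) (r : ℕ) (c : List ℕ × List ℕ) : Bool :=
  (Nat.beq r 8 || Nat.beq r 9) && eqL (c.1.map fun p => img c.2 (f p)) (unitC r)

theorem not_small_of_lowB {x : CoG} {f : ℕ → ℕ} (hf : ∀ p, f p = disp (code x) p) {r m : ℕ}
    {c : List ℕ × List ℕ} (h : lowB f r c = true) (hm : m < r) : ¬ Small m x := by
  rintro ⟨S, hS, hmem⟩
  simp only [lowB, Bool.and_eq_true, Bool.or_eq_true, Nat.beq_eq, eqL_iff] at h
  have hu : ∀ y < 2 ^ r, img (unitC r) y = y := by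
    intro y hy
    have := List.all_eq_true.1 unit_ok r (by simp; omega)
    simpa using List.all_eq_true.1 this y (List.mem_range.2 hy)
  have hcard : (Finset.range (2 ^ r)).card ≤ S.card := by
    refine Finset.card_le_card_of_injOn (fun y => disp (code x) (img c.1 y)) (fun y _ => hmem _) ?_
    intro y hy y' hy' e
    have hL := img_map (fun p => img c.2 (disp (code x) p)) (fun p q => by
      simp only [disp_xor, img_xor]) c.1
    have e1 : c.1.map (fun p => img c.2 (disp (code x) p)) = unitC r := by
      rw [← h.2]; exact List.map_congr_left fun p _ => by rw [hf]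
    simp only [e1] at hL
    rw [← hu y (Finset.mem_range.1 hy), hL, ← hu y' (Finset.mem_range.1 hy'), hL]
    exact congrArg (img c.2) e
  rw [Finset.card_range] at hcard
  have := Nat.pow_lt_pow_right (show 1 < 2 by norm_num) hm
  omega

/-- The lower bound for a word. -/
noncomputable def lowW (w : List ℕ) (r : ℕ) (c : List ℕ × List ℕ) : Bool :=
  okW 17 w && lowB (fun p => kpt w p ^^^ img oneC p) r c

theorem not_small_of_lowW {w : List ℕ} {r m : ℕ} {c : List ℕ × List ℕ} (h : lowW w r c = true) (hm : m < r) :
    ¬ Small m (ev letter w) := by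
  simp only [lowW, Bool.and_eq_true, okW_iff] at h
  exact not_small_of_lowB (fun p => by rw [disp, img_ev h.1]) h.2 hm

theorem small_of_upW {w : List ℕ} {r : ℕ} {c : List ℕ × List ℕ}
    (h : (okW 17 w && upB (cEv w) r c) = true) : Small r (ev letter w) := by
  simp only [Bool.and_eq_true, okW_iff] at h
  exact small_of_upB (by rw [code_ev h.1]; exact h.2)

end CfsgLib.CoTwoEnd
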