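import Cfsg.Agent.Lib.CoTwoEnd.Keys
import Cfsg.Agent.Lib.CoTwoEnd.DataList

/-!
# The two parts of a Sylow subgroup of the centraliser, listed
-/

set_option autoImplicit false
set_option maxRecDepth 100000
set_option linter.style.haveILetI false

namespace CfsgLib.CoTwoEnd

open Cfsg CfsgLib.Rigid CfsgLib.CoTwoRec Subgroup

/-- An entry of a table in chunks of thirty-two. -/
def getK (T : List (List (List ℕ))) (k : ℕ) : List ℕ := (T.getD (k / 32) []).getD (k % 32) []

/-- The word of a list of generators. -/
def iword (gens : List (List ℕ)) (is : List ℕ) : List ℕ := (is.map fun i => gens.getD i []).flatten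

/-- The check of a listed subgroup. -/
noncomputable def listB (n : ℕ) (K : List (List (List ℕ))) (W : List (List ℕ)) (gens tab : List (List ℕ)) : Bool :=
  decide (0 < n) && eqL (getK K 0) bpts && (gens.all (okW 17)) &&
  decide (W.length = n) &&
  (W.zip (List.range n)).all (fun e => okW gens.length e.1 && eqL (kw (iword gens e.1)) (getK K e.2)) &&
  (List.range gens.length).all (fun i => decide ((tab.getD i []).length = n) &&
    ((tab.getD i []).zip (List.range n)).all fun e =>
      Nat.blt e.1 n && eqL ((getK K e.2).map (kpt (gens.getD i []))) (getK K e.1))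

/-- Packing values. -/
noncomputable def packK (M : List ℕ) : ℕ := M.foldr (fun p r => Nat.add p (Nat.mul 8388608 r)) 0

theorem key_mul_map {u : List ℕ} (hu : ∀ l ∈ u, l < 17) (h : CoG) :
    key (ev letter u * h) = (key h).map (kpt u) := by
  rw [key, key, List.map_map]
  refine List.map_congr_left fun p _ => ?_
  show img (code (ev letter u * h)) p = kpt u (img (code h) p)
  rw [← img_ev hu, img_code_mul]

theorem key_one_eq : key 1 = kw [] := by
  rw [← key_ev (w := []) (by simp)]; rfl

theorem bpts_one : eqL (kw []) bpts = true := by decide +kernel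

/-- The generated subgroup. -/
noncomputable def genSub (gens : List (List ℕ)) : Subgroup CoG :=
  closure (Set.range fun i : Fin gens.length => ev letter (gens.getD i []))

theorem ev_iword_mem {gens : List (List ℕ)} : ∀ {is : List ℕ}, (∀ i ∈ is, i < gens.length) →
    ev letter (iword gens is) ∈ genSub gens
  | [], _ => by simp [iword, ev]
  | i :: is, h => by
    rw [show iword gens (i :: is) = gens.getD i [] ++ iword gens is by simp [iword], ev_append]
    exact mul_mem (subset_closure ⟨⟨i, h i List.mem_cons_self⟩, rfl⟩)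
      (ev_iword_mem fun k hk => h k (List.mem_cons_of_mem _ hk))

section

variable {n : ℕ} {K : List (List (List ℕ))} {W gens tab : List (List ℕ)} (h : listB n K W gens tab = true)

include h

theorem listB_spec {i : ℕ} (hi : i < n) :
    key (ev letter (iword gens (W.getD i []))) = getK K i ∧
      ev letter (iword gens (W.getD i [])) ∈ genSub gens ∧ (∀ l ∈ iword gens (W.getD i []), l < 17) := by
  simp only [listB, Bool.and_eq_true, decide_eq_true_eq, List.all_eq_true, eqL_iff] at h
  obtain ⟨⟨⟨-, hg⟩, hlen⟩, hW⟩ := h.1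
  have hz : i < (W.zip (List.range n)).length := by simp [hlen]; omega
  have := hW _ (List.getElem_mem hz)
  simp only [List.getElem_zip, List.getElem_range, okW_iff] at this
  rw [List.getD_eq_getElem _ _ (by omega)]
  have hok : ∀ l ∈ iword gens W[i], l < 17 := by
    intro l hl
    simp only [iword, List.mem_flatten, List.mem_map] at hl
    obtain ⟨_, ⟨j, hj, rfl⟩, hl⟩ := hl
    rw [List.getD_eq_getElem _ _ (this.1 j hj)] at hl
    exact okW_iff.1 (hg _ (List.getElem_mem _)) l hl
  exact ⟨(key_ev hok).trans this.2, ev_iword_mem this.1, hok⟩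

theorem genSub_mem {y : CoG} (hy : y ∈ genSub gens) :
    ∃ i < n, y = ev letter (iword gens (W.getD i [])) := by
  suffices ∀ k < n, ∃ j < n, key (y * ev letter (iword gens (W.getD k []))) = getK K j by
    have h0 : 0 < n := by
      simp only [listB, Bool.and_eq_true, decide_eq_true_eq] at h
      exact h.1.1.1.1.1
    obtain ⟨j, hj, e⟩ := this 0 h0
    refine ⟨j, hj, key_inj ?_⟩
    rw [(listB_spec h hj).1, ← e]
    have e0 : ev letter (iword gens (W.getD 0 [])) = 1 := key_inj (by
      rw [(listB_spec h h0).1, key_one_eq, (eqL_iff _ _).1 bpts_one]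
      simp only [listB, Bool.and_eq_true, eqL_iff] at h
      exact h.1.1.1.1.2)
    rw [e0, mul_one]
  rw [genSub, ← Subgroup.mem_toSubmonoid, Subgroup.closure_toSubmonoid_of_finite] at hy
  induction hy using Submonoid.closure_induction with
  | mem s hs =>
    obtain ⟨i, rfl⟩ := hs
    intro k hk
    simp only [listB, Bool.and_eq_true, decide_eq_true_eq, List.all_eq_true, List.mem_range, eqL_iff,
      Nat.blt_eq] at h
    obtain ⟨hl, hall⟩ := h.2 i.1 i.2
    have hz : k < ((tab.getD i.1 []).zip (List.range n)).length := by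
      simp only [List.length_zip, List.length_range, hl]; omega
    have := hall _ (List.getElem_mem hz)
    simp only [List.getElem_zip, List.getElem_range] at this
    refine ⟨_, this.1, ?_⟩
    rw [key_mul_map, ← this.2, (listB_spec (by
      simp only [listB, Bool.and_eq_true, decide_eq_true_eq, List.all_eq_true, List.mem_range, eqL_iff,
        Nat.blt_eq]
      exact h) hk).1]
    exact okW_iff.1 (h.1.1.1.2 _ (by rw [List.getD_eq_getElem _ _ i.2]; exact List.getElem_mem _))
  | one => intro k hk; exact ⟨k, hk, by rw [one_mul]; exact (listB_spec h hk).1⟩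
  | mul a b _ _ ha hb =>
    intro k hk
    obtain ⟨j, hj, e⟩ := hb k hk
    rw [mul_assoc, show b * ev letter (iword gens (W.getD k [])) = ev letter (iword gens (W.getD j [])) from
      key_inj (e.trans (listB_spec h hj).1.symm)]
    exact ha j hj

theorem card_genSub {ok : ndTest 200 ((List.range n).map fun k => packK (getK K k)) = true} :
    Nat.card ↥(genSub gens) = n := by
  let f : Fin n → ↥(genSub gens) := fun k => ⟨_, (listB_spec h k.2).2.1⟩
  have hbij : Function.Bijective f := by
    refine ⟨fun i j e => ?_, fun y => ?_⟩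
    · dsimp only [f] at e
      have e1 : getK K i = getK K j := by
        rw [← (listB_spec h i.2).1, ← (listB_spec h j.2).1]
        exact congrArg key (Subtype.ext_iff.1 e :)
      exact Fin.ext (List.inj_on_of_nodup_map (nodup_of_ndTest _ _ ok)
        (List.mem_range.2 i.2) (List.mem_range.2 j.2) (congrArg packK e1))
    · obtain ⟨k, hk, e⟩ := genSub_mem h y.2
      exact ⟨⟨k, hk⟩, Subtype.ext e.symm⟩
  rw [← Nat.card_eq_of_bijective f hbij, Nat.card_fin]

end

/-- The generators of Q. -/
def qGens : List (List ℕ) := (List.range' 8 8).map fun l => [l]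

theorem q_list : listB 512 qKeys qIdx qGens qTab = true := by decide +kernel

theorem p_list : listB 512 pKeys pIdx pGens pTab = true := by decide +kernel

theorem q_nd : ndTest 200 ((List.range 512).map fun k => packK (getK qKeys k)) = true := by decide +kernel

theorem p_nd : ndTest 200 ((List.range 512).map fun k => packK (getK pKeys k)) = true := by decide +kernel

theorem qp_nd : ndTest 200 (((List.range 512).map fun k => packK (getK qKeys k)) ++
    ((List.range' 1 511).map fun k => packK (getK pKeys k))) = true := by decide +kernel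

/-- The subgroup Q. -/
noncomputable def Qs : Subgroup CoG := genSub qGens

/-- The subgroup P. -/
noncomputable def Ps : Subgroup CoG := genSub pGens

/-- The word of the `i`th element of Q. -/
def qW (i : ℕ) : List ℕ := iword qGens (qIdx.getD i [])

/-- The word of the `i`th element of P. -/
def pW (i : ℕ) : List ℕ := iword pGens (pIdx.getD i [])

theorem card_Qs : Nat.card ↥Qs = 512 := card_genSub q_list (ok := q_nd)

theorem card_Ps : Nat.card ↥Ps = 512 := card_genSub p_list (ok := p_nd)

theorem q_mem {y : CoG} (hy : y ∈ Qs) : ∃ i < 512, y = ev letter (qW i) := genSub_mem q_list hy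

theorem p_mem {y : CoG} (hy : y ∈ Ps) : ∃ i < 512, y = ev letter (pW i) := genSub_mem p_list hy

theorem q_ok {i : ℕ} (hi : i < 512) : ∀ l ∈ qW i, l < 17 := (listB_spec q_list hi).2.2

theorem p_ok {i : ℕ} (hi : i < 512) : ∀ l ∈ pW i, l < 17 := (listB_spec p_list hi).2.2

theorem meet {y : CoG} (hq : y ∈ Qs) (hp : y ∈ Ps) : y = 1 := by
  obtain ⟨i, hi, rfl⟩ := q_mem hq
  obtain ⟨j, hj, e⟩ := p_mem hp
  have hk : getK qKeys i = getK pKeys j := by
    rw [← (listB_spec q_list hi).1, ← (listB_spec p_list hj).1]; exact congrArg key e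
  rcases Nat.eq_zero_or_pos j with rfl | hpos
  · rw [e]
    exact key_inj (by
      rw [show pW 0 = iword pGens (pIdx.getD 0 []) from rfl, (listB_spec p_list hj).1, key_one_eq,
        (eqL_iff _ _).1 bpts_one]
      have h := p_list
      simp only [listB, Bool.and_eq_true, eqL_iff] at h
      exact h.1.1.1.1.2)
  · have hnd := nodup_of_ndTest _ _ qp_nd
    rw [List.nodup_append] at hnd
    exact absurd (congrArg packK hk) (hnd.2.2 _ (List.mem_map.2 ⟨i, List.mem_range.2 hi, rfl⟩) _
      (List.mem_map.2 ⟨j, List.mem_range'.2 ⟨j - 1, by omega, by omega⟩, rfl⟩))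

/-- The letters of H normalise Q. -/
noncomputable def normB : Bool :=
  (List.range 8).all fun l => (List.range 8).all fun j =>
    Nat.blt ((qNorm.getD l []).getD j 512) 512 &&
      eqL (kw [l, 8 + j, l]) (getK qKeys ((qNorm.getD l []).getD j 512))

theorem norm_ok : normB = true := by decide +kernel

theorem letter_conj_Qs {l : ℕ} (hl : l < 8) {y : CoG} (hy : y ∈ Qs) :
    letter l * y * (letter l)⁻¹ ∈ Qs := by
  suffices Qs ≤ Qs.comap (MulAut.conj (letter l)).toMonoidHom from this hy
  rw [Qs, genSub, closure_le]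
  rintro _ ⟨j, rfl⟩
  have hj : j.1 < 8 := j.2
  have h := norm_ok
  simp only [normB, List.all_eq_true, List.mem_range, Bool.and_eq_true, Nat.blt_eq, eqL_iff] at h
  obtain ⟨h1, h2⟩ := h l hl j.1 hj
  show letter l * ev letter (qGens.getD j []) * (letter l)⁻¹ ∈ genSub qGens
  have e : qGens.getD j.1 [] = [8 + j.1] := by
    rw [List.getD_eq_getElem _ _ j.2]; simp [qGens]
  rw [e, inv_eq_of_mul_eq_one_right (letter_mul_self (show l < 17 by omega)),
    show letter l * ev letter [8 + j.1] * letter l = ev letter [l, 8 + j.1, l] by simp [ev, mul_assoc]]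
  rw [show ev letter [l, 8 + j.1, l] = ev letter (qW ((qNorm.getD l []).getD j.1 512)) from
    key_inj (by rw [key_ev (by simp; omega), h2]; exact (listB_spec q_list h1).1.symm)]
  exact (listB_spec q_list h1).2.1

/-- The subgroup H. -/
noncomputable def Hs : Subgroup CoG := closure (Set.range fun l : Fin 8 => letter l)

theorem Hs_conj_Qs {k : CoG} (hk : k ∈ Hs) : ∀ {y : CoG}, y ∈ Qs → k * y * k⁻¹ ∈ Qs := by
  rw [Hs, ← Subgroup.mem_toSubmonoid, Subgroup.closure_toSubmonoid_of_finite] at hk
  induction hk using Submonoid.closure_induction with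
  | mem s hs =>
    obtain ⟨l, rfl⟩ := hs
    exact fun hy => letter_conj_Qs l.2 hy
  | one => intro y hy; simpa using hy
  | mul a b _ _ ha hb =>
    intro y hy
    rw [show a * b * y * (a * b)⁻¹ = a * (b * y * b⁻¹) * a⁻¹ by group]
    exact ha (hb hy)

theorem letter_mem_Hs {l : ℕ} (hl : l < 8) : letter l ∈ Hs := subset_closure ⟨⟨l, hl⟩, rfl⟩

theorem ev_mem_Hs : ∀ {w : List ℕ}, (∀ l ∈ w, l < 8) → ev letter w ∈ Hs
  | [], _ => by simp [ev]
  | l :: w, h => by
    rw [show ev letter (l :: w) = letter l * ev letter w by simp [ev]]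
    exact mul_mem (letter_mem_Hs (h l List.mem_cons_self)) (ev_mem_Hs fun k hk => h k (List.mem_cons_of_mem _ hk))

theorem pGens_H : pGens.all (okW 8) = true := by decide +kernel

theorem Ps_le_Hs : Ps ≤ Hs := by
  rw [Ps, genSub, closure_le]
  rintro _ ⟨j, rfl⟩
  exact ev_mem_Hs (okW_iff.1 (List.all_eq_true.1 pGens_H _ (by
    rw [List.getD_eq_getElem _ _ j.2]; exact List.getElem_mem _)))

/-- The Sylow subgroup. -/
noncomputable def Ss : Subgroup CoG := Qs ⊔ Ps

theorem Ps_le_normalizer : Ps ≤ normalizer (Qs : Set CoG) := by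
  intro k hk
  refine mem_normalizer_iff.2 fun y => ⟨fun hy => Hs_conj_Qs (Ps_le_Hs hk) hy, fun hy => ?_⟩
  have := Hs_conj_Qs (inv_mem (Ps_le_Hs hk)) hy
  simpa [mul_assoc] using this

theorem Ss_mem {z : CoG} (hz : z ∈ Ss) : ∃ q ∈ Qs, ∃ p ∈ Ps, z = q * p := by
  have := coe_mul_of_right_le_normalizer_left Qs Ps Ps_le_normalizer
  have hz' : z ∈ ((Qs ⊔ Ps : Subgroup CoG) : Set CoG) := hz
  rw [this] at hz'
  obtain ⟨q, hq, p, hp, rfl⟩ := Set.mem_mul.1 hz'
  exact ⟨q, hq, p, hp, rfl⟩

theorem card_Ss : Nat.card ↥Ss = 2 ^ 18 := by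
  let f : ↥Qs × ↥Ps → ↥Ss := fun x =>
    ⟨x.1 * x.2, mul_mem (mem_sup_left x.1.2) (mem_sup_right x.2.2)⟩
  have hbij : Function.Bijective f := by
    refine ⟨fun x x' e => ?_, fun z => ?_⟩
    · have e' : (x.1 : CoG) * x.2 = x'.1 * x'.2 := congrArg Subtype.val e
      have h1 : (x'.1 : CoG)⁻¹ * x.1 = x'.2 * (x.2 : CoG)⁻¹ := by
        rw [inv_mul_eq_iff_eq_mul, ← mul_assoc, ← e', mul_inv_cancel_right]
      have hm := meet (mul_mem (inv_mem x'.1.2) x.1.2) (h1 ▸ mul_mem x'.2.2 (inv_mem x.2.2))
      exact Prod.ext (Subtype.ext (inv_mul_eq_one.1 hm).symm)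
        (Subtype.ext (mul_inv_eq_one.1 (h1.symm.trans hm)).symm)
    · obtain ⟨q, hq, p, hp, e⟩ := Ss_mem z.2
      exact ⟨(⟨q, hq⟩, ⟨p, hp⟩), Subtype.ext e.symm⟩
  rw [← Nat.card_eq_of_bijective f hbij, Nat.card_prod, card_Qs, card_Ps]; norm_num

end CfsgLib.CoTwoEnd
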