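import Cfsg.Agent.Lib.CoTwoEnd.List
import Cfsg.Agent.Lib.CoTwoEnd.DataMisc
import Cfsg.Agent.Lib.CoTwoEnd.DataNbr

/-!
# Checks: the single facts, and the products of the neighbour with Q
-/

set_option autoImplicit false
set_option maxRecDepth 100000

namespace CfsgLib.CoTwoEnd

open Cfsg CfsgLib.Rigid CfsgLib.CoTwoRec

theorem tUp_ok : (okW 17 tWord && upB (cEv tWord) 7 tUp) = true := by decide +kernel

theorem bLow_ok : lowW (tWord ++ xWord) 8 bLow = true := by decide +kernel

theorem cLow_ok : lowW (tWord ++ yWord) 8 cLow = true := by decide +kernel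

theorem nbrK_ok : conjB nbrK xWord tWord = true := by decide +kernel

theorem secK_ok : conjB secK yWord tWord = true := by decide +kernel

theorem beta_ok : (okW 16 betaW && betaW.all (fun l => Nat.ble 8 l) &&
    conjB betaK betaW (tWord ++ xWord) && okW 16 wWord && conjB wK wWord tWord &&
    kEq (wWord ++ betaW) (betaW ++ wWord)) = true := by decide +kernel

theorem tbUp_ok : (okW 17 (tWord ++ betaW) && upB (cEv (tWord ++ betaW)) 8 tbUp) = true := by decide +kernel

theorem tbLow_ok : lowW (tWord ++ betaW) 8 tbLow = true := by decide +kernel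

theorem wbLow_ok : lowW (wWord ++ betaW) 9 wbLow = true := by decide +kernel

theorem tm_sq : kEq (tWord ++ tWord) [] = true := by decide +kernel

theorem tm_ne : ptNe tWord [] 1 = true ∨ ptNe tWord [] 32768 = true ∨ ptNe tWord [] 2336768 = true := by
  decide +kernel

theorem orders_ok : (kEq ((tWord ++ xWord) ++ (tWord ++ xWord)) [] &&
    kEq ((tWord ++ yWord) ++ (tWord ++ yWord)) []) = true := by decide +kernel

/-- The check of the commuting conjugates. -/
noncomputable def uB : Bool :=
  decide (uWords.length = 3) && decide (uK.length = 3) &&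
  (List.range 3).all (fun i => okW 16 (uWords.getD i []) && conjB (uK.getD i []) (uWords.getD i []) tWord &&
    kEq (uWords.getD i [] ++ (tWord ++ yWord)) ((tWord ++ yWord) ++ uWords.getD i [])) &&
  kEq (uWords.getD 0 [] ++ uWords.getD 1 []) (uWords.getD 1 [] ++ uWords.getD 0 []) &&
  (kEq (uWords.getD 0 [] ++ uWords.getD 1 []) (uWords.getD 2 []) ||
    kEq (uWords.getD 0 [] ++ uWords.getD 1 []) (uWords.getD 2 [] ++ (tWord ++ yWord)))

theorem u_ok : uB = true := by decide +kernel

/-- The columns of a displacement. -/
noncomputable def dcols (w : List ℕ) : List ℕ := List.zipWith (fun a b => a ^^^ b) (cEv w) oneC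

/-- The check against swapping the central involution with the one over a transvection. -/
noncomputable def swB : Bool :=
  okW 17 tWord && okW 17 yWord && decide ((cEv tWord).length = 23) && decide ((cEv yWord).length = 23) &&
  decide (oneC.length = 23) && decide (swPts.length = 8) &&
  (mulF swPsi (dcols yWord)).all (fun a => Nat.beq a 0) &&
  (List.range' 1 255).all fun x =>
    Nat.beq (kpt tWord (img swPts x)) (img oneC (img swPts x)) &&
      (!(Nat.beq (kpt yWord (img swPts x)) (img oneC (img swPts x))) ||
        (Nat.beq (img oneC (img swPts x))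
            (kpt tWord (img swPre (x / 2 ^ swN)) ^^^ img oneC (img swPre (x / 2 ^ swN))) &&
          !(Nat.beq (img swPsi (img oneC (img swPts x))) 0)))

theorem sw_ok : swB = true := by decide +kernel

/-- The check of the products of the neighbour with Q. -/
noncomputable def nbrB : Bool :=
  decide (nbrQ.length = 512) && (nbrQ.zip (List.range 512)).all fun e =>
    (Nat.beq e.1.1 0 && kEq (qW e.2) []) ||
    (Nat.beq e.1.1 1 && kEq (qW e.2) tWord) ||
    (Nat.beq e.1.1 2 && ptNe (qW e.2 ++ qW e.2) [] e.1.2.1) ||
    (Nat.beq e.1.1 3 && ptNe (qW e.2 ++ xWord) (xWord ++ qW e.2) e.1.2.1) ||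
    (Nat.beq e.1.1 4 && conjB e.1.2.2 (xWord ++ qW e.2) tWord) ||
    (Nat.beq e.1.1 5 && conjB e.1.2.2 (tWord ++ xWord ++ qW e.2)
      (if Nat.beq e.1.2.1 0 then tWord else tWord ++ yWord))

theorem nbrQ_ok : nbrB = true := by decide +kernel

end CfsgLib.CoTwoEnd
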