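import Cfsg.Agent.Lib.CoTwoEnd.Classify
import Cfsg.Agent.Lib.CoTwoEnd.IsoChecks
import Cfsg.Agent.Lib.CoTwoEnd.MiscChecks

/-!
# The pairs of involutions over the third class, in the model
-/

set_option autoImplicit false
set_option maxRecDepth 100000

namespace CfsgLib.CoTwoEnd

open Cfsg CfsgLib.Rigid CfsgLib.CoTwoRec Subgroup

theorem tm_central_ok : ((List.range 16).all fun l => kEq (tWord ++ [l]) ([l] ++ tWord)) = true := by
  decide +kernel

theorem Cm_induction {P : CoG → Prop} (hl : ∀ l < 16, P (letter l)) (h1 : P 1)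
    (hm : ∀ a b, P a → P b → P (a * b)) {k : CoG} (hk : k ∈ Cm) : P k := by
  rw [Cm, ← Subgroup.mem_toSubmonoid, Subgroup.closure_toSubmonoid_of_finite] at hk
  induction hk using Submonoid.closure_induction with
  | mem s hs => obtain ⟨l, rfl⟩ := hs; exact hl l l.2
  | one => exact h1
  | mul a b _ _ ha hb => exact hm a b ha hb

theorem tm_central {k : CoG} (hk : k ∈ Cm) : Commute (tm : CoG) k := by
  refine Cm_induction (P := Commute (tm : CoG)) (fun l hl => ?_) (Commute.one_right _)
    (fun a b => Commute.mul_right) hk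
  have h := ev_eq_of_kEq (List.all_eq_true.1 tm_central_ok l (List.mem_range.2 hl))
  rw [coe_tm]
  exact (by simpa [ev] using h : _ = _)

theorem ev_mem_Cm {w : List ℕ} (h : ∀ l ∈ w, l < 16) : ev letter w ∈ Cm := by
  rw [← coe_ev_xm h]; exact SetLike.coe_mem _

theorem Hs_le_Cm : Hs ≤ Cm :=
  (closure_le _).2 (by rintro _ ⟨l, rfl⟩; exact subset_closure ⟨⟨l, by omega⟩, rfl⟩)

theorem letter_mem_Qs {l : ℕ} (h8 : 8 ≤ l) (hl : l < 16) : letter l ∈ Qs := by
  refine subset_closure ⟨⟨l - 8, by simp [qGens]; omega⟩, ?_⟩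
  show ev letter (qGens.getD (l - 8) []) = letter l
  rw [List.getD_eq_getElem _ _ (by simp [qGens]; omega)]
  simp [qGens, ev, show 8 + (l - 8) = l by omega]

theorem ev_mem_Qs : ∀ {w : List ℕ}, (∀ l ∈ w, 8 ≤ l ∧ l < 16) → ev letter w ∈ Qs
  | [], _ => by simp [ev]
  | l :: w, h => by
    rw [show ev letter (l :: w) = letter l * ev letter w by simp [ev]]
    exact mul_mem (letter_mem_Qs (h l List.mem_cons_self).1 (h l List.mem_cons_self).2)
      (ev_mem_Qs fun k hk => h k (List.mem_cons_of_mem _ hk))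

/-- The carrying element under H. -/
noncomputable def Te (i : ℕ) : CoG := ev letter (tauK i)

/-- The conjugate under Q. -/
noncomputable def Oe (j : ℕ) : CoG := ev letter (cy (omK j))

theorem tau_spec {i : ℕ} (hi : i < 63) :
    Te i ∈ Hs ∧ (∀ l ∈ tauK i, l < 17) ∧ code (Te i * (sec : CoG) * (Te i)⁻¹) = tauC.getD i [] := by
  have h := tau_ok
  simp only [tauB, Bool.and_eq_true, decide_eq_true_eq, List.all_eq_true, List.mem_range, okW_iff, eqL_iff] at h
  obtain ⟨⟨h1, h2⟩, h3⟩ := h.2 i hi
  have h17 : ∀ l ∈ tauK i, l < 17 := fun l hl => lt_trans (h1 l hl) (by norm_num)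
  refine ⟨ev_mem_Hs h1, h17, ?_⟩
  rw [← h3, ← code_ev h2, cy, ev_append, ev_append, ev_rev h17, coe_sec]
  rfl

theorem Te_zero : Te 0 = 1 := by
  have h := tau_ok
  simp only [tauB, Bool.and_eq_true, decide_eq_true_eq, List.all_eq_true, List.mem_range, okW_iff, eqL_iff] at h
  exact key_inj (by rw [Te, key_ev (tau_spec (show 0 < 63 by norm_num)).2.1, h.1.2, key_one_eq])

theorem om_spec {j : ℕ} (hj : j < 16) : ev letter (omK j) ∈ Qs ∧ code (Oe j) = omC.getD j [] ∧
    Oe j = ev letter (omK j) * (sec : CoG) * (ev letter (omK j))⁻¹ := by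
  have h := om_ok
  simp only [omB, Bool.and_eq_true, decide_eq_true_eq, List.all_eq_true, List.mem_range, okW_iff, eqL_iff,
    Nat.ble_eq] at h
  obtain ⟨⟨⟨h1, h2⟩, h3⟩, h4⟩ := h.2 j hj
  refine ⟨ev_mem_Qs fun l hl => ⟨h2 l hl, h1 l hl⟩, by rw [Oe, code_ev h3, h4], ?_⟩
  rw [Oe, cy, ev_append, ev_append, ev_rev fun l hl => lt_trans (h1 l hl) (by norm_num), coe_sec]

theorem Oe_zero : Oe 0 = (sec : CoG) := by
  have h := om_ok
  simp only [omB, Bool.and_eq_true, decide_eq_true_eq, List.all_eq_true, List.mem_range, okW_iff, eqL_iff,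
    Nat.ble_eq] at h
  have e : ev letter (omK 0) = 1 := key_inj (by
    rw [key_ev (fun l hl => lt_trans ((h.2 0 (by norm_num)).1.1.1 l hl) (show 16 < 17 by norm_num)), h.1.2,
      key_one_eq])
  rw [(om_spec (by norm_num)).2.2, e, one_mul, inv_one, mul_one]

theorem conj_eq_of_codes {l : ℕ} (hl : l < 17) {x x' : CoG} {C C' : List ℕ} (hC : code x = C) (hC' : code x' = C')
    (h : bpts.map (fun p => img (codes.getD l []) (img C (img (codes.getD l []) p))) =
      bpts.map (fun p => img C' p)) : letter l * x * (letter l)⁻¹ = x' := by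
  refine key_inj ?_
  rw [inv_eq_of_mul_eq_one_right (letter_mul_self hl), key, key, hC', ← h]
  refine List.map_congr_left fun p _ => ?_
  rw [mul_assoc, img_code_mul, img_code_mul, code_letter hl, hC]

theorem Qs_conj_Oe {q : CoG} (hq : q ∈ Qs) : ∀ j < 16, ∃ j' < 16, q * Oe j * q⁻¹ = Oe j' := by
  rw [Qs, genSub, ← Subgroup.mem_toSubmonoid, Subgroup.closure_toSubmonoid_of_finite] at hq
  induction hq using Submonoid.closure_induction with
  | mem s hs =>
    obtain ⟨⟨l, hl⟩, rfl⟩ := hs
    intro j hj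
    have hl8 : l < 8 := hl
    have h := omAct_ok
    simp only [omActB, Bool.and_eq_true, List.all_eq_true, List.mem_range, Nat.blt_eq, eqL_iff] at h
    obtain ⟨h1, h2⟩ := h j hj l hl8
    refine ⟨_, h1, ?_⟩
    show ev letter (qGens.getD l []) * Oe j * (ev letter (qGens.getD l []))⁻¹ = _
    have e : ev letter (qGens.getD l []) = letter (8 + l) := by
      rw [List.getD_eq_getElem _ _ hl]; simp [qGens, ev]
    rw [e]
    exact conj_eq_of_codes (by omega) (om_spec hj).2.1 (om_spec h1).2.1 h2
  | one => intro j hj; exact ⟨j, hj, by group⟩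
  | mul a b _ _ ha hb =>
    intro j hj
    obtain ⟨j1, hj1, e1⟩ := hb j hj
    obtain ⟨j2, hj2, e2⟩ := ha j1 hj1
    exact ⟨j2, hj2, by rw [← e2, ← e1]; group⟩

/-- The conjugates of the involution over a transvection. -/
def Om (z : CoG) : Prop := ∃ i < 63, ∃ j < 16, z = Te i * Oe j * (Te i)⁻¹

theorem letter_conj_Om {l : ℕ} (hl : l < 16) {z : CoG} (hz : Om z) : Om (letter l * z * (letter l)⁻¹) := by
  obtain ⟨i, hi, j, hj, rfl⟩ := hz
  by_cases h8 : l < 8
  · have h := tauAct_ok
    simp only [tauActB, Bool.and_eq_true, List.all_eq_true, List.mem_range, Nat.blt_eq, eqL_iff] at h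
    obtain ⟨h1, h2⟩ := h i hi l h8
    set i' := (tauTab.getD i []).getD l 63
    have e := conj_eq_of_codes (show l < 17 by omega) (tau_spec hi).2.2 (tau_spec h1).2.2 h2
    set u := (Te i')⁻¹ * letter l * Te i with hu
    have hu8 : u ∈ Hs := mul_mem (mul_mem (inv_mem (tau_spec h1).1) (letter_mem_Hs h8)) (tau_spec hi).1
    have hfix : u * (sec : CoG) * u⁻¹ = sec := by
      calc u * (sec : CoG) * u⁻¹ = (Te i')⁻¹ * (letter l * (Te i * sec * (Te i)⁻¹) * (letter l)⁻¹) * Te i' := by
            rw [hu]; group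
        _ = sec := by rw [e]; group
    obtain ⟨j', hj', ej⟩ := Qs_conj_Oe (Hs_conj_Qs hu8 (om_spec hj).1) 0 (by norm_num)
    refine ⟨i', h1, j', hj', ?_⟩
    rw [← ej, Oe_zero]
    calc letter l * (Te i * Oe j * (Te i)⁻¹) * (letter l)⁻¹ = Te i' * (u * Oe j * u⁻¹) * (Te i')⁻¹ := by
          rw [hu]; group
      _ = Te i' * (u * ev letter (omK j) * u⁻¹ * (u * sec * u⁻¹) * (u * ev letter (omK j) * u⁻¹)⁻¹) *
          (Te i')⁻¹ := by rw [(om_spec hj).2.2]; group
      _ = _ := by rw [hfix]
  · obtain ⟨j', hj', ej⟩ := Qs_conj_Oe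
      (Hs_conj_Qs (inv_mem (tau_spec hi).1) (letter_mem_Qs (show 8 ≤ l by omega) hl)) j hj
    refine ⟨i, hi, j', hj', ?_⟩
    rw [← ej]
    group

theorem Cm_conj_Om {k : CoG} (hk : k ∈ Cm) : ∀ {z : CoG}, Om z → Om (k * z * k⁻¹) := by
  refine Cm_induction (P := fun k => ∀ {z : CoG}, Om z → Om (k * z * k⁻¹)) (fun l hl _ h => letter_conj_Om hl h)
    (fun h => by simpa using h) (fun a b ha hb z h => ?_) hk
  rw [show a * b * z * (a * b)⁻¹ = a * (b * z * b⁻¹) * a⁻¹ by group]
  exact ha (hb h)

/-- A seed. -/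
noncomputable def seedM (s : Bool) : Cm := if s then sec else nbr

theorem coe_seed (s : Bool) : (seedM s : CoG) = ev letter (seedW s) := by
  cases s <;> simp [seedM, seedW, coe_nbr, coe_sec]

/-- Of the conjugates commuting with the involution over a transvection only itself gives the first class. -/
theorem iso_model {e k : Cm} {s : Bool} (hs : k * e * k⁻¹ = seedM s) (hc : e * sec = sec * e)
    (hT : Small 7 ((tm * sec * e : Cm) : CoG)) : e = sec := by
  have hK : (k : CoG) * e * (k : CoG)⁻¹ = ev letter (seedW s) := by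
    rw [← coe_seed, ← hs]; push_cast; rfl
  obtain ⟨i, hi, j, hj, hij⟩ : Om ((k : CoG) * sec * (k : CoG)⁻¹) :=
    Cm_conj_Om k.2 ⟨0, by norm_num, 0, by norm_num, by rw [Te_zero, Oe_zero]; group⟩
  obtain ⟨C, T, hC, hT'⟩ : ∃ C T, eB s C = true ∧ isoB C (cEv tWord) T = true := by
    cases s
    exacts [⟨_, _, e0_ok, iso0_ok⟩, ⟨_, _, e1_ok, iso1_ok⟩]
  simp only [eB, List.all_eq_true, List.mem_range, Bool.and_eq_true, okW_iff, eqL_iff] at hC
  obtain ⟨hew, hec⟩ := hC i hi
  set e' := (Te i)⁻¹ * ((k : CoG) * e * (k : CoG)⁻¹) * Te i with he'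
  have hcode : code e' = C.getD i [] := by
    rw [← hec, ← code_ev hew, eW, ev_append, ev_append, ev_rev (tau_spec hi).2.1, ← hK, he']
    rfl
  have hO : Oe j = (Te i)⁻¹ * ((k : CoG) * sec * (k : CoG)⁻¹) * Te i := by rw [hij]; group
  have hecs : (e : CoG) * sec = sec * e := congrArg Subtype.val hc
  have hcomm : e' * Oe j = Oe j * e' := by
    calc e' * Oe j = (Te i)⁻¹ * ((k : CoG) * ((e : CoG) * sec) * (k : CoG)⁻¹) * Te i := by rw [he', hO]; group
      _ = Oe j * e' := by rw [hecs, he', hO]; group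
  have hsm : Small 7 ((tm : CoG) * (Oe j * e')) := by
    have h := small_conj hT ((Te i)⁻¹ * k)
    push_cast at h
    have hcen : (Te i)⁻¹ * k * (tm : CoG) = tm * ((Te i)⁻¹ * k) :=
      ((tm_central (mul_mem (inv_mem (Hs_le_Cm (tau_spec hi).1)) k.2)).eq).symm
    have e1 : (tm : CoG) * (Oe j * e') = (Te i)⁻¹ * k * ((tm : CoG) * sec * e) * ((Te i)⁻¹ * k)⁻¹ := by
      calc (tm : CoG) * (Oe j * e') = tm * ((Te i)⁻¹ * k) * ((sec : CoG) * e) * ((Te i)⁻¹ * k)⁻¹ := by
            rw [he', hO]; group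
        _ = (Te i)⁻¹ * k * tm * ((sec : CoG) * e) * ((Te i)⁻¹ * k)⁻¹ := by rw [hcen]
        _ = _ := by group
    rw [e1]
    exact h
  simp only [isoB, Bool.and_eq_true, decide_eq_true_eq, List.all_eq_true] at hT'
  have hz : 16 * i + j < (T.zip (List.range 1008)).length := by simp [hT'.1]; omega
  have h := hT'.2 _ (List.getElem_mem hz)
  simp only [List.getElem_zip, List.getElem_range, show (16 * i + j) / 16 = i by omega,
    show (16 * i + j) % 16 = j by omega, Bool.or_eq_true, Bool.and_eq_true, eqL_iff] at h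
  rcases h with (h | h) | h
  · have he : Oe j = e' := code_injective (by rw [(om_spec hj).2.1, hcode, h.2])
    refine Subtype.ext ?_
    rw [he', hO] at he
    simpa using he.symm
  · have h2 := h.2
    rw [← (om_spec hj).2.1, ← hcode, ← img_code_mul, ← img_code_mul, hcomm] at h2
    simp at h2
  · refine absurd hsm (not_small_of_lowB (fun p => ?_) h.2 (show 7 < 8 by norm_num))
    rw [disp, img_code_mul, img_code_mul, (om_spec hj).2.1, hcode, coe_tm,
      code_ev (fun l hl => lt_trans ((okW_iff.1 (by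
        have h := words_ok
        simp only [Bool.and_eq_true] at h
        exact h.1.1)) l hl) (show 16 < 17 by norm_num))]

/-- No element with small displacement carries the central involution to the one over a transvection. -/
theorem swap_false {v : CoG} (hv : Small 7 v) (h : v * (tm : CoG) * v⁻¹ = sec) : False := by
  have hvt : v * (tm : CoG) = sec * v := by rw [← h]; group
  have hs := sw_ok
  simp only [swB, Bool.and_eq_true, decide_eq_true_eq, List.all_eq_true, okW_iff, Nat.beq_eq] at hs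
  obtain ⟨⟨⟨⟨⟨⟨⟨hwt, hwy⟩, -⟩, hly⟩, hlo⟩, -⟩, hpsi⟩, hall⟩ := hs
  obtain ⟨S, hS, hmem⟩ := hv
  have hcard : (Finset.range (2 ^ 8)).card ≤ S.card := by
    refine Finset.card_le_card_of_injOn (fun x => disp (code v) (img swPts x)) (fun x _ => hmem _) ?_
    intro x hx x' hx' e
    by_contra hne
    have hlt : x ^^^ x' < 2 ^ 8 := Nat.xor_lt_two_pow (Finset.mem_range.1 hx) (Finset.mem_range.1 hx')
    have hpos : 0 < x ^^^ x' := Nat.pos_of_ne_zero fun h => hne (Nat.xor_eq_zero_iff.1 h)
    obtain ⟨ht, hrest⟩ := by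
      simpa only [Bool.and_eq_true, Bool.or_eq_true, Bool.not_eq_true', Nat.beq_eq] using
        hall (x ^^^ x') (List.mem_range'.2 ⟨(x ^^^ x') - 1, by norm_num at hlt; omega, by omega⟩)
    set z := img swPts (x ^^^ x') with hz
    have hfix : img (code v) z = img oneC z := by
      refine Nat.xor_eq_zero_iff.1 (show disp (code v) z = 0 from ?_)
      rw [hz, img_xor, disp_xor]
      exact Nat.xor_eq_zero_iff.2 e
    rw [← img_ev hwt, ← coe_tm] at ht
    rcases hrest with h1 | ⟨h2, h3⟩
    · have e2 : kpt yWord z = img oneC z := by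
        rw [← img_ev hwy, ← coe_sec]
        calc img (code (sec : CoG)) z = img (code (sec : CoG)) (img oneC z) := (img_code_one _ _).symm
          _ = img (code ((sec : CoG) * v)) z := by rw [img_code_mul, hfix]
          _ = img (code v) (img oneC z) := by rw [← hvt, img_code_mul, ht]
          _ = img oneC z := by rw [img_code_one, hfix]
      rw [e2] at h1
      simp at h1
    · set q := img swPre ((x ^^^ x') / 2 ^ swN) with hq
      have e4 : img oneC z = disp (code (sec : CoG)) (img (code v) q) := by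
        rw [← img_ev hwt, ← coe_tm] at h2
        calc img oneC z = img (code v) (img oneC z) := by rw [img_code_one, hfix]
          _ = img (code v) (disp (code (tm : CoG)) q) := by rw [h2]; rfl
          _ = disp (code (sec : CoG)) (img (code v) q) := by
            rw [disp, disp, img_xor, ← img_code_mul, hvt, img_code_mul, img_code_one, img_one_code]
      have e5 : img swPsi (img oneC z) = 0 := by
        rw [e4, disp, coe_sec, code_ev hwy, ← img_zip _ _ _ (hly.trans hlo.symm), ← img_mulF]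
        have := img_lt (r := 0) (A := mulF swPsi (dcols yWord)) (fun a ha => by simp [hpsi a ha]) (img (code v) q)
        simp only [pow_zero, Nat.lt_one_iff] at this
        exact this
      rw [e5] at h3
      simp at h3
  rw [Finset.card_range] at hcard
  norm_num at hcard hS
  omega

end CfsgLib.CoTwoEnd
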