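import Cfsg.Agent.Lib.CoTwoEnd.Abstract
import Cfsg.Agent.Lib.CoTwoEnd.Orbit

/-!
# A copy of Co2 containing the centraliser of an involution is everything
-/

set_option autoImplicit false
set_option maxRecDepth 100000
set_option linter.unusedSectionVars false

namespace CfsgLib.CoTwoEnd

open Cfsg CfsgLib.Rigid CfsgLib.CoTwoRec CfsgLib.Invol Subgroup

theorem small_one : Small 7 (1 : CoG) :=
  ⟨{0}, by norm_num, fun p => by rw [disp, code_one']; simp⟩

theorem small_tm : Small 7 (tm : CoG) := coe_tm ▸ small_of_upW tUp_ok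

theorem not_small_bm : ¬ Small 7 (bm : CoG) := coe_bm ▸ not_small_of_lowW bLow_ok (by norm_num)

theorem not_small_cm : ¬ Small 7 (cm : CoG) := coe_cm ▸ not_small_of_lowW cLow_ok (by norm_num)

/-- A conjugate of the central involution in the model. -/
def IsT (z : CoG) : Prop := ∃ k : CoG, k * z * k⁻¹ = (tm : CoG)

theorem IsT.small {z : CoG} (h : IsT z) : Small 7 z := by
  obtain ⟨k, hk⟩ := h
  rw [show z = k⁻¹ * (tm : CoG) * k⁻¹⁻¹ by rw [← hk]; group]
  exact small_conj small_tm _

theorem IsT.conj {z : CoG} (h : IsT z) (g : CoG) : IsT (g * z * g⁻¹) := by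
  obtain ⟨k, hk⟩ := h
  exact ⟨k * g⁻¹, by rw [← hk]; group⟩

theorem isT_tm : IsT (tm : CoG) := ⟨1, by group⟩

theorem isT_nbr : IsT (nbr : CoG) :=
  ⟨ev letter nbrK, by rw [coe_nbr, coe_tm]; exact conj_of_conjB nbrK_ok⟩

theorem isT_sec : IsT (sec : CoG) :=
  ⟨ev letter secK, by rw [coe_sec, coe_tm]; exact conj_of_conjB secK_ok⟩

theorem tm_mul_tm : (tm : CoG) * tm = 1 := by
  rw [coe_tm, ← ev_append, ev_eq_of_kEq tm_sq]; rfl

theorem tm_mul_cm : (tm : CoG) * cm = sec := by
  rw [cm, Subgroup.coe_mul, ← mul_assoc, tm_mul_tm, one_mul]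

theorem Cm_conj_Qs {k : CoG} (hk : k ∈ Cm) : ∀ {y : CoG}, y ∈ Qs → k * y * k⁻¹ ∈ Qs := by
  refine Cm_induction (P := fun k => ∀ {y : CoG}, y ∈ Qs → k * y * k⁻¹ ∈ Qs) (fun l hl _ hy => ?_)
    (fun hy => by simpa using hy) (fun a b ha hb y hy => ?_) hk
  · by_cases h8 : l < 8
    · exact letter_conj_Qs h8 hy
    · have := letter_mem_Qs (show 8 ≤ l by omega) hl
      exact mul_mem (mul_mem this hy) (inv_mem this)
  · rw [show a * b * y * (a * b)⁻¹ = a * (b * y * b⁻¹) * a⁻¹ by group]
    exact ha (hb hy)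

/-- The involution of Q. -/
noncomputable def betaM : CoG := ev letter betaW

/-- The commuting conjugate. -/
noncomputable def wM : CoG := ev letter wWord

theorem beta_facts : betaM ∈ Cm ∧ betaM ∈ Qs ∧
    ev letter betaK * betaM * (ev letter betaK)⁻¹ = (bm : CoG) ∧ wM ∈ Cm ∧ IsT wM ∧ wM * betaM = betaM * wM := by
  have h := beta_ok
  simp only [Bool.and_eq_true, okW_iff, List.all_eq_true, Nat.ble_eq] at h
  obtain ⟨⟨⟨⟨⟨h1, h2⟩, h3⟩, h4⟩, h5⟩, h6⟩ := h
  refine ⟨ev_mem_Cm h1, ev_mem_Qs fun l hl => ⟨h2 l hl, h1 l hl⟩, ?_, ev_mem_Cm h4, ⟨ev letter wK, ?_⟩, ?_⟩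
  · rw [coe_bm]; exact conj_of_conjB h3
  · rw [coe_tm]; exact conj_of_conjB h5
  · rw [wM, betaM, ← ev_append, ← ev_append, ev_eq_of_kEq h6]

theorem betaM_not_isT : ¬ IsT betaM := fun h =>
  not_small_bm (beta_facts.2.2.1 ▸ (h.conj _).small)

theorem betaM_ne_one : betaM ≠ 1 := fun h =>
  not_small_bm (by rw [← beta_facts.2.2.1, h, mul_one, mul_inv_cancel]; exact small_one)

/-- The products of the neighbour with a commuting involution of Q. -/
theorem nbr_cases {q : CoG} (hq : q ∈ Qs) (hsq : q * q = 1) (hc : q * (nbr : CoG) = nbr * q) :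
    q = 1 ∨ q = tm ∨ IsT ((nbr : CoG) * q) ∨
      ∃ k : CoG, k * ((tm : CoG) * nbr * q) * k⁻¹ = tm ∨ k * ((tm : CoG) * nbr * q) * k⁻¹ = cm := by
  obtain ⟨i, hi, rfl⟩ := q_mem hq
  have h := nbrQ_ok
  simp only [nbrB, Bool.and_eq_true, decide_eq_true_eq, List.all_eq_true] at h
  have hz : i < (nbrQ.zip (List.range 512)).length := by simp [h.1]; omega
  have hw := h.2 _ (List.getElem_mem hz)
  simp only [List.getElem_zip, List.getElem_range, Bool.or_eq_true, Bool.and_eq_true] at hw
  obtain ⟨en, hen⟩ : ∃ en, nbrQ[i]'(by omega) = en := ⟨_, rfl⟩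
  rw [hen] at hw
  rcases hw with ((((hw | hw) | hw) | hw) | hw) | hw
  · exact .inl ((ev_eq_of_kEq hw.2).trans (by simp [ev]))
  · exact .inr (.inl (coe_tm ▸ ev_eq_of_kEq hw.2))
  · exact absurd hsq (by have := ev_ne_of_ptNe hw.2; rwa [ev_append, show ev letter [] = (1 : CoG) by simp [ev]] at this)
  · exact absurd hc (by have := ev_ne_of_ptNe hw.2; rwa [ev_append, ev_append, ← coe_nbr] at this)
  · refine .inr (.inr (.inl ⟨ev letter en.2.2, ?_⟩))
    rw [coe_nbr, coe_tm, ← ev_append]
    exact conj_of_conjB hw.2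
  · refine .inr (.inr (.inr ⟨ev letter en.2.2, ?_⟩))
    have e := conj_of_conjB hw.2
    rw [coe_nbr, coe_tm, coe_cm, ← ev_append, ← ev_append, e]
    cases Nat.beq en.2.1 0 <;> simp

section

variable {G : Type*} [Group G] [Finite G] {t : G} (ht : orderOf t = 2) (co : Coord t) (phi : CoG →* G)
  (hinj : Function.Injective phi) (hc : ∀ c : Cm, phi c = co.iota c)
  (hfus : ∀ (g : G) (c : Cm), g * t * g⁻¹ = co.iota c →
    c = tm ∨ ∃ k : Cm, k * c * k⁻¹ = nbr ∨ k * c * k⁻¹ = sec)

include ht co hinj hc hfus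

/-- A copy of Co2 containing the centraliser of an involution, with the fusion in it, is the whole group. -/
theorem eq_top_of_hom : phi.range = ⊤ := by
  set X := phi.range with hX
  have hord : ∀ z, orderOf (phi z) = orderOf z := orderOf_injective phi hinj
  have hpt : phi tm = t := by rw [hc, co.map_t]
  have hmem : ∀ z, phi z ∈ X := fun z => ⟨z, rfl⟩
  have htX : centralizer ({t} : Set G) ≤ X := by
    intro g hg
    rw [← co.range_eq] at hg
    obtain ⟨c, rfl⟩ := hg
    exact hc c ▸ hmem _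
  have hpre : ∀ z : CoG, phi z * t = t * phi z → ∃ c : Cm, (c : CoG) = z := by
    intro z hz
    have : phi z ∈ co.iota.range := by rw [co.range_eq]; exact mem_centralizer_singleton_iff.2 hz
    obtain ⟨c, hcz⟩ := this
    exact ⟨c, hinj ((hc c).trans hcz)⟩
  -- the conjugates of `t` in the model
  have hT : ∀ (z : CoG) (g : G), g * t * g⁻¹ = phi z → IsT z := by
    intro z g hg
    have hz : orderOf z = 2 := by rw [← hord, ← hg, orderOf_conj_eq, ht]
    have bad : ∀ m : Cm, ¬ Small 7 (m : CoG) → ∀ k : CoG, k * z * k⁻¹ = (m : CoG) → False := by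
      intro m hm k hk
      have hgm : phi k * g * t * (phi k * g)⁻¹ = co.iota m := by
        rw [← hc m, ← hk, map_mul, map_mul, map_inv, ← hg]; group
      rcases hfus _ m hgm with e | ⟨k', e | e⟩
      · exact hm (e ▸ small_tm)
      all_goals
        refine hm (IsT.small ?_)
        rw [show (m : CoG) = (k' : CoG)⁻¹ * ((k' * m * k'⁻¹ : Cm) : CoG) * (k' : CoG)⁻¹⁻¹ by push_cast; group, e]
      exacts [isT_nbr.conj _, isT_sec.conj _]
    obtain ⟨k, e | e | e⟩ := invol_three hz
    exacts [⟨k, e⟩, (bad bm not_small_bm k e).elim, (bad cm not_small_cm k e).elim]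
  have hfix : ∀ g, g * t * g⁻¹ ∈ X → g ∈ X := by
    intro g hg
    obtain ⟨z, hz⟩ := hg
    obtain ⟨k, hk⟩ := hT z g hz.symm
    have h1 : phi k * g ∈ centralizer ({t} : Set G) := mem_centralizer_singleton_iff.2 (by
      have e : phi k * (g * t * g⁻¹) * (phi k)⁻¹ = t := by rw [← hz, ← map_inv, ← map_mul, ← map_mul, hk, hpt]
      calc phi k * g * t = phi k * (g * t * g⁻¹) * (phi k)⁻¹ * (phi k * g) := by group
        _ = t * (phi k * g) := by rw [e])
    simpa using mul_mem (inv_mem (hmem k)) (htX h1)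
  have hTx : ∀ z, IsT z → Tx t X (phi z) := fun z ⟨k, hk⟩ =>
    ⟨phi k⁻¹, hmem _, by rw [← hpt, ← hk, ← map_inv, ← map_mul, ← map_mul]; congr 1; group⟩
  have hgood : ∀ z p : CoG, (∃ k : CoG, k * z * k⁻¹ = p) → centralizer ({phi p} : Set G) ≤ X →
      centralizer ({phi z} : Set G) ≤ X := by
    rintro z p ⟨k, hk⟩ hp g hg
    have := hp (x := phi k * g * (phi k)⁻¹) (mem_centralizer_singleton_iff.2 (by
      rw [← hk, map_mul, map_mul, map_inv]
      calc phi k * g * (phi k)⁻¹ * (phi k * phi z * (phi k)⁻¹) = phi k * (g * phi z) * (phi k)⁻¹ := by group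
        _ = phi k * phi z * (phi k)⁻¹ * (phi k * g * (phi k)⁻¹) := by
          rw [mem_centralizer_singleton_iff.1 hg]; group))
    simpa [mul_assoc] using mul_mem (mul_mem (inv_mem (hmem k)) this) (hmem k)
  have hctm : (cm : CoG) * tm = tm * cm := (tm_central cm.2).eq.symm
  have hcm2 : orderOf (phi cm) = 2 := by
    have h := orders_ok
    simp only [Bool.and_eq_true] at h
    rw [hord, orderOf_eq_two_iff']
    refine ⟨fun e => not_small_cm (e ▸ small_one), ?_⟩
    rw [coe_cm, ← ev_append, ev_eq_of_kEq h.2]; rfl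
  have hbm2 : orderOf (phi bm) = 2 := by
    have h := orders_ok
    simp only [Bool.and_eq_true] at h
    rw [hord, orderOf_eq_two_iff']
    refine ⟨fun e => not_small_bm (e ▸ small_one), ?_⟩
    rw [coe_bm, ← ev_append, ev_eq_of_kEq h.1]; rfl
  have htne : t ≠ phi cm := fun e => not_small_cm (by
    rw [← hpt] at e; rw [← hinj e]; exact small_tm)
  have htc : t * phi cm = phi cm * t := by rw [← hpt, ← map_mul, ← map_mul, hctm]
  have htcs : t * phi cm = phi sec := by rw [← hpt, ← map_mul, tm_mul_cm]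
  -- the third class
  have hcX : centralizer ({phi cm} : Set G) ≤ X := by
    have hu := u_ok
    simp only [uB, Bool.and_eq_true, decide_eq_true_eq, List.all_eq_true, List.mem_range, Bool.or_eq_true,
      okW_iff] at hu
    obtain ⟨⟨⟨-, hall⟩, hcom⟩, hprod⟩ := hu
    set u : ℕ → CoG := fun i => ev letter (uWords.getD i []) with hud
    have hfac : ∀ i < 3, Tx t X (phi (u i)) ∧ phi (u i) * phi cm = phi cm * phi (u i) := fun i hi => by
      obtain ⟨⟨-, h2⟩, h3⟩ := hall i hi
      refine ⟨hTx _ ⟨_, by rw [coe_tm]; exact conj_of_conjB h2⟩, ?_⟩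
      rw [← map_mul, ← map_mul, coe_cm, hud, ← ev_append, ← ev_append, ev_eq_of_kEq h3]
    have h01 : phi (u 0) * phi (u 1) = phi (u 1) * phi (u 0) := by
      rw [← map_mul, ← map_mul, hud, ← ev_append, ← ev_append, ev_eq_of_kEq hcom]
    have hsq : phi (u 0) * phi (u 0) = 1 := by
      obtain ⟨k, -, e⟩ := (hfac 0 (by norm_num)).1
      rw [← e]; simp [mul_assoc, ← mul_assoc t t, mul_self_of_orderOf_two ht]
    refine cent_le_iso ht htX hfix hcm2 htc htne (htcs ▸ hTx _ isT_sec) ?_
      (u₁ := phi (u 0)) (u₂ := phi (u 0)) (u₃ := phi (u 0)) (u₄ := phi (u 0) * (phi (u 0) * phi (u 1)))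
      (u₅ := phi (u 2)) ?_ ?_ ?_
    · rintro y ⟨y0, rfl⟩ hy
      have hy0 : y0 * (cm : CoG) = cm * y0 := hinj (by rw [map_mul, map_mul, hy])
      set v0 := y0 * (tm : CoG) * y0⁻¹ with hv0
      have hv : phi y0 * t * (phi y0)⁻¹ = phi v0 := by rw [hv0, map_mul, map_mul, map_inv, hpt]
      refine ⟨fun hcomm => ?_, fun hsw => ?_⟩
      · rw [hv] at hcomm ⊢
        obtain ⟨e, he⟩ := hpre v0 hcomm
        rcases hfus (phi y0) e (by rw [hv, ← he, hc]) with h | ⟨k, hk⟩
        · exact .inl (by rw [← he, h, hpt])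
        · right
          have hecm : e * (tm * sec) = (tm * sec) * e := Subtype.ext (by
            show (e : CoG) * cm = cm * e
            rw [he, hv0]
            calc y0 * tm * y0⁻¹ * cm = y0 * tm * (y0⁻¹ * (cm * y0)) * y0⁻¹ := by group
              _ = y0 * ((tm : CoG) * cm) * y0⁻¹ := by rw [← hy0]; group
              _ = y0 * cm * (tm : CoG) * y0⁻¹ := by rw [← hctm]; group
              _ = cm * (y0 * tm * y0⁻¹) := by rw [hy0]; group)
          have het : e * tm = tm * e := Subtype.ext (tm_central e.2).eq.symm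
          have hes : e * sec = sec * e := by
            refine mul_left_cancel (a := tm) ?_
            rw [← mul_assoc, ← het, mul_assoc, hecm, mul_assoc]
          have hT' : Small 7 ((tm * sec * e : Cm) : CoG) := by
            rw [← hecm]
            show Small 7 ((e : CoG) * cm)
            rw [he, hv0, show y0 * (tm : CoG) * y0⁻¹ * cm = y0 * ((tm : CoG) * cm) * y0⁻¹ by
              calc y0 * tm * y0⁻¹ * cm = y0 * tm * (y0⁻¹ * (cm * y0)) * y0⁻¹ := by group
                _ = _ := by rw [← hy0]; group, tm_mul_cm]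
            exact (isT_sec.conj y0).small
          have : e = sec := by
            rcases hk with hk | hk
            · exact iso_model (s := false) hk hes hT'
            · exact iso_model (s := true) hk hes hT'
          rw [htcs, ← he, this]
      · rw [hv, htcs, ← hpt, ← map_inv, ← map_mul, ← map_mul] at hsw
        exact swap_false (IsT.small (isT_tm.conj y0)) (hinj hsw)
    · intro x hx
      simp only [List.mem_cons, List.not_mem_nil, or_false] at hx
      have h4 : phi (u 0) * (phi (u 0) * phi (u 1)) = phi (u 1) := by rw [← mul_assoc, hsq, one_mul]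
      rcases hx with rfl | rfl | rfl | rfl | rfl
      exacts [hfac 0 (by norm_num), hfac 0 (by norm_num), hfac 0 (by norm_num),
        h4.symm ▸ hfac 1 (by norm_num), hfac 2 (by norm_num)]
    · have h4 : phi (u 0) * (phi (u 0) * phi (u 1)) = phi (u 1) := by rw [← mul_assoc, hsq, one_mul]
      rw [h4]
      intro x hx x' hx'
      simp only [List.mem_cons, List.not_mem_nil, or_false] at hx hx'
      rcases hx with rfl | rfl | rfl | rfl <;> rcases hx' with rfl | rfl | rfl | rfl <;>
        first | rfl | exact h01 | exact h01.symm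
    · rw [hsq, one_mul, ← mul_assoc (phi (u 0)) (phi (u 0)), hsq, one_mul, ← map_mul]
      rcases hprod with h | h
      · exact .inl (by rw [hud, ← ev_append, ev_eq_of_kEq h])
      · exact .inr (by rw [← map_mul, coe_cm, hud, ← ev_append, ev_eq_of_kEq h, ev_append])
  obtain ⟨hβC, hβQ, hβb, hwC, hwT, hwβ⟩ := beta_facts
  have hβt : (tm : CoG) * betaM = betaM * tm := (tm_central hβC).eq
  have hnw : ¬ Small 8 (wM * betaM) := by
    rw [wM, betaM, ← ev_append]; exact not_small_of_lowW wbLow_ok (by norm_num)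
  have hst : Small 8 ((tm : CoG) * betaM) := by
    rw [coe_tm, betaM, ← ev_append]; exact small_of_upW tbUp_ok
  have hnT1 : ¬ IsT ((tm : CoG) * betaM) := fun h => by
    have := h.small; rw [coe_tm, betaM, ← ev_append] at this; exact not_small_of_lowW tbLow_ok (by norm_num) this
  have hnT2 : ¬ IsT (wM * betaM) := fun h => by
    have := h.small; rw [wM, betaM, ← ev_append] at this; exact not_small_of_lowW wbLow_ok (by norm_num) this
  have hbX : centralizer ({phi bm} : Set G) ≤ X := by
    refine hgood _ betaM ⟨(ev letter betaK)⁻¹, by rw [← hβb]; group⟩ ?_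
    refine cent_le_dihedral ht htX hfix (β := phi betaM) (w := phi wM) ?_ (hTx _ hwT) ?_ ?_ ?_ ?_
    · rw [← hpt, ← map_mul, ← map_mul, hβt]
    · rw [← map_mul, ← map_mul, hwβ]
    · rintro _ ⟨k, rfl⟩ e
      rw [← hpt, ← map_mul, ← map_mul, ← map_mul, ← map_inv, ← map_mul] at e
      exact hnw (hinj e ▸ small_conj hst k)
    · intro g
      rw [← map_mul, show t * phi betaM = phi ((tm : CoG) * betaM) by rw [map_mul, hpt]]
      exact ⟨fun e => hnT1 (hT _ g e), fun e => hnT2 (hT _ g e)⟩
    · intro e hTe het heβ hne hnu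
      obtain ⟨k0, hk0, he0⟩ := hTe
      obtain ⟨z, rfl⟩ := Tx.mem htX ⟨k0, hk0, he0⟩
      obtain ⟨c, rfl⟩ := hpre z het
      have hcβ : (c : CoG) * betaM = betaM * c := hinj (by rw [map_mul, map_mul, heβ])
      rcases hfus k0 c (by rw [he0, hc]) with h | ⟨k, h | h⟩
      · exact absurd (by rw [h, hpt]) hne
      · set q := (k : CoG) * betaM * (k : CoG)⁻¹ with hq
        have hkc : (k : CoG) * c * (k : CoG)⁻¹ = nbr := by rw [← h]; push_cast; rfl
        have hkt : (k : CoG) * tm = tm * k := (tm_central k.2).eq.symm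
        have hb2 : betaM * betaM = 1 := by
          have h := orders_ok
          simp only [Bool.and_eq_true] at h
          have hb : (bm : CoG) * bm = 1 := by rw [coe_bm, ← ev_append, ev_eq_of_kEq h.1]; rfl
          rw [← hβb] at hb
          refine conj_eq_one_iff.1 (?_ : ev letter betaK * (betaM * betaM) * (ev letter betaK)⁻¹ = 1)
          rw [← hb]; group
        have hqn : q * (nbr : CoG) = nbr * q := by
          rw [← hkc, hq]
          calc (k : CoG) * betaM * (k : CoG)⁻¹ * ((k : CoG) * c * (k : CoG)⁻¹) = k * (betaM * c) * (k : CoG)⁻¹ := by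
                group
            _ = _ := by rw [← hcβ]; group
        rcases nbr_cases (Cm_conj_Qs k.2 hβQ) (by
            rw [show q * q = k * (betaM * betaM) * (k : CoG)⁻¹ by rw [hq]; group, hb2]; group) hqn
          with h1 | h1 | h1 | ⟨m, h1⟩
        · exact absurd (conj_eq_one_iff.1 h1) betaM_ne_one
        · refine absurd ?_ betaM_not_isT
          exact ⟨k, h1⟩
        · exfalso
          obtain ⟨m, hm⟩ := h1
          have h2 : IsT ((c : CoG) * betaM) := ⟨m * k, by
            rw [← hm, ← hkc]; group⟩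
          obtain ⟨m', -, e'⟩ := hTx _ h2
          exact hnu m' (by rw [← map_mul]; exact e')
        · right
          have e3 : (k : CoG) * ((tm : CoG) * c * betaM) * (k : CoG)⁻¹ = tm * nbr * q := by
            calc (k : CoG) * ((tm : CoG) * c * betaM) * (k : CoG)⁻¹ =
                (k : CoG) * tm * (k : CoG)⁻¹ * ((k : CoG) * c * (k : CoG)⁻¹) *
                  ((k : CoG) * betaM * (k : CoG)⁻¹) := by group
              _ = _ := by rw [hkc, hkt, mul_inv_cancel_right, hq]
          have hz : ∀ p, m * ((tm : CoG) * nbr * q) * m⁻¹ = p →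
              m * k * ((tm : CoG) * c * betaM) * (m * k)⁻¹ = p := fun p hp => by
            rw [← hp, ← e3]; group
          rw [show t * phi c * phi betaM = phi ((tm : CoG) * c * betaM) by rw [map_mul, map_mul, hpt]]
          rcases h1 with h1 | h1
          · exact hgood _ _ ⟨_, hz _ h1⟩ (by rw [hpt]; exact htX)
          · exact hgood _ _ ⟨_, hz _ h1⟩ hcX
      · left
        rw [show t * phi c = phi ((tm : CoG) * c) by rw [map_mul, hpt]]
        refine hgood _ (cm : CoG) ⟨k, ?_⟩ hcX
        have hkc : (k : CoG) * c * (k : CoG)⁻¹ = sec := by rw [← h]; push_cast; rfl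
        calc (k : CoG) * ((tm : CoG) * c) * (k : CoG)⁻¹ =
            (k : CoG) * tm * (k : CoG)⁻¹ * ((k : CoG) * c * (k : CoG)⁻¹) := by group
          _ = _ := by rw [hkc, (tm_central k.2).eq.symm, mul_inv_cancel_right]; rfl
  refine eq_top_of_three ht htX hfix (b := phi bm) (c := phi cm) hbm2 ?_ htc.symm hbX hcX ?_ ?_
  · rw [← hpt, ← map_mul, ← map_mul, (tm_central bm.2).eq]
  · rintro _ ⟨z, rfl⟩ hz
    obtain ⟨k, hk⟩ := invol_three (z := z) (by rw [← hord, hz])
    refine ⟨phi k, hmem k, ?_⟩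
    simp only [← map_inv, ← map_mul, Set.mem_insert_iff, Set.mem_singleton_iff]
    rcases hk with e | e | e <;> rw [e]
    exacts [.inl hpt, .inr (.inl rfl), .inr (.inr rfl)]
  · intro h
    obtain ⟨g, hg⟩ := isConj_iff.1 h
    exact not_small_bm (hT _ g hg).small

end

end CfsgLib.CoTwoEnd
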